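import Cfsg.Agent.Lib.ExtCert.M23.Cocode

/-!
# The sum of two extensions of `M23` by the cocode module
-/

set_option autoImplicit false

namespace Cfsg.Agent.Lib.ExtCert.M23.Baer

open Cfsg Cfsg.Agent.Lib.ExtCert.Basic Cfsg.Agent.Lib.ExtCert.Solve Cfsg.Agent.Lib.ExtCert.Final
open Cfsg.Agent.Lib.ExtCert.Main Cfsg.Agent.Lib.ExtCert.M23.Wrap Cfsg.Agent.Lib.ExtCert.M23.Cocode
open Cfsg.Agent.Lib.ExtCert.M23.D9 Cfsg.Agent.Lib.ExtCert.M23.R9 Cfsg.Agent.Lib.ExtCert.M23.F9
open Cfsg.Agent.Lib.SchurCert.Lift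
open Cfsg.Agent.Lib.Golay.Core Cfsg.Agent.Lib.Golay.Perm Cfsg.Agent.Lib.Golay.OutGroups

universe u v

section Baer

variable {E : Type u} {E' : Type v} [Group E] [Group E'] {f : E →* ↥Spor.M23} {f' : E' →* ↥Spor.M23}
  {th : W → E} {th' : W → E'}

/-- The fibre product. -/
def PP (f : E →* ↥Spor.M23) (f' : E' →* ↥Spor.M23) : Subgroup (E × E') :=
  (f.comp (MonoidHom.fst E E')).eqLocus (f'.comp (MonoidHom.snd E E'))

theorem mem_PP {x : E × E'} : x ∈ PP f f' ↔ f x.1 = f' x.2 := Iff.rfl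

/-- The antidiagonal element of a word. -/
def dl (D : CoData f th) (D' : CoData f' th') (u : W) : PP f f' :=
  ⟨(th u, th' u), by rw [mem_PP, D.map, D'.map]⟩

/-- The element with trivial second component. -/
def th1 (D : CoData f th) (u : W) : PP f f' :=
  ⟨(th u, 1), by rw [mem_PP, D.map, map_one]⟩

/-- The antidiagonal. -/
def DL (D : CoData f th) (D' : CoData f' th') : Subgroup (PP f f') where
  carrier := {x | ∃ u, dl D D' u = x}
  mul_mem' := by
    rintro _ _ ⟨u, rfl⟩ ⟨v, rfl⟩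
    exact ⟨u + v, Subtype.ext (Prod.ext (D.add u v) (D'.add u v))⟩
  one_mem' := ⟨0, Subtype.ext (Prod.ext D.zero D'.zero)⟩
  inv_mem' := by
    rintro _ ⟨u, rfl⟩
    refine ⟨u, Subtype.ext (Prod.ext ?_ ?_)⟩
    · exact (inv_eq_of_mul_eq_one_left (D.sq u)).symm
    · exact (inv_eq_of_mul_eq_one_left (D'.sq u)).symm

theorem mem_DL {D : CoData f th} {D' : CoData f' th'} {x : PP f f'} :
    x ∈ DL D D' ↔ ∃ u, dl D D' u = x := Iff.rfl

instance DL_normal (D : CoData f th) (D' : CoData f' th') : (DL D D').Normal where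
  conj_mem := by
    rintro _ ⟨u, rfl⟩ x
    refine ⟨u ∘ ⇑((f x.1.1 : ↥Spor.M23) : Equiv.Perm GolayPt)⁻¹, Subtype.ext (Prod.ext ?_ ?_)⟩
    · exact D.conj u x.1.1
    · have hx : f x.1.1 = f' x.1.2 := x.2
      show th' _ = _
      rw [hx]
      exact D'.conj u x.1.2

/-- The sum of the two extensions. -/
abbrev QQ (D : CoData f th) (D' : CoData f' th') : Type (max u v) := ↥(PP f f') ⧸ DL D D'

/-- The map to `M23`. -/
def FF (D : CoData f th) (D' : CoData f' th') : QQ D D' →* ↥Spor.M23 :=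
  QuotientGroup.lift (DL D D') (f.comp ((MonoidHom.fst E E').comp (PP f f').subtype)) (by
    rintro _ ⟨u, rfl⟩
    exact D.map u)

variable (D : CoData f th) (D' : CoData f' th')

theorem FF_mk (x : PP f f') : FF D D' (x : QQ D D') = f x.1.1 := rfl

theorem FF_surj : Function.Surjective (FF D D') := by
  intro m
  obtain ⟨a, ha⟩ := D.surj m
  obtain ⟨a', ha'⟩ := D'.surj m
  exact ⟨((⟨(a, a'), by rw [mem_PP, ha, ha']⟩ : PP f f') : QQ D D'), ha⟩

/-- An element of the kernel, as a word. -/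
theorem key_eq (u v : W) (h : (th u, th' v) ∈ PP f f') :
    (((⟨(th u, th' v), h⟩ : PP f f')) : QQ D D') = ((th1 D (u + v) : PP f f') : QQ D D') := by
  rw [QuotientGroup.eq]
  refine ⟨v, Subtype.ext (Prod.ext ?_ ?_)⟩
  · show th v = (th u)⁻¹ * th (u + v)
    rw [D.add, ← mul_assoc, inv_mul_cancel, one_mul]
  · show th' v = (th' v)⁻¹ * 1
    rw [mul_one]
    exact (inv_eq_of_mul_eq_one_left (D'.sq v)).symm

/-- The relation of the module of the sum. -/
def Rq (x : QQ D D') (u : W) : Prop := ((th1 D u : PP f f') : QQ D D') = x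

theorem extModQ : ExtMod (sg (FF D D')) KK (Rq D D') where
  mul := by
    rintro a b u v rfl rfl
    show ((th1 D (u + v) : PP f f') : QQ D D') = _
    rw [← QuotientGroup.mk_mul]
    congr 1
    exact Subtype.ext (Prod.ext (D.add u v) (one_mul _).symm)
  conj := by
    rintro a u b rfl
    induction b using QuotientGroup.induction_on with
    | H x =>
    show ((th1 D _ : PP f f') : QQ D D') = _
    rw [← QuotientGroup.mk_inv, ← QuotientGroup.mk_mul, ← QuotientGroup.mk_mul]
    congr 1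
    refine Subtype.ext (Prod.ext ?_ ?_)
    · exact D.conj u x.1.1
    · show (1 : E') = x.1.2 * 1 * x.1.2⁻¹
      group
  ex := by
    intro a ha
    induction a using QuotientGroup.induction_on with
    | H x =>
    have h1 : f x.1.1 = 1 := Subtype.ext ha
    have h2 : f' x.1.2 = 1 := by
      have hx : f x.1.1 = f' x.1.2 := x.2
      rw [← hx, h1]
    obtain ⟨u1, hu1⟩ := (D.ker_iff _).mp h1
    obtain ⟨u2, hu2⟩ := (D'.ker_iff _).mp h2
    refine ⟨u1 + u2, ?_⟩
    have h3 := key_eq D D' u1 u2 (by rw [mem_PP, D.map, D'.map])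
    show ((th1 D (u1 + u2) : PP f f') : QQ D D') = _
    rw [← h3]
    congr 1
    exact Subtype.ext (Prod.ext hu1 hu2)
  ker := by
    rintro a u rfl
    show ((f (th u) : ↥Spor.M23) : Equiv.Perm GolayPt) = 1
    rw [D.map]
    rfl
  diff := by
    rintro a u v rfl h
    have h1 := QuotientGroup.eq.mp h
    obtain ⟨w, hw⟩ := h1
    have hw1 : th w = (th v)⁻¹ * th u := congrArg (fun x => x.1.1) hw
    have hw2 : th' w = 1⁻¹ * 1 := congrArg (fun x => x.1.2) hw
    have h3 : w ∈ KK := by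
      rw [← D'.triv, hw2]
      simp
    have h4 : th w = 1 := (D.triv w).mpr h3
    rw [h4] at hw1
    have h5 : th v = th u := by
      have := congrArg (fun y => th v * y) hw1
      simpa using this
    rw [← D.triv, D.add, h5, D.sq]
  shift := by
    rintro a u v rfl hv
    show ((th1 D (u + v) : PP f f') : QQ D D') = _
    congr 1
    refine Subtype.ext (Prod.ext ?_ rfl)
    show th (u + v) = th u
    rw [D.add, (D.triv v).mpr hv, mul_one]
  triv := by
    rintro a u rfl hu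
    have : (th1 D u : PP f f') = 1 := Subtype.ext (Prod.ext ((D.triv u).mpr hu) rfl)
    show ((th1 D u : PP f f') : QQ D D') = 1
    rw [this]
    rfl
  one := by
    show ((th1 D 0 : PP f f') : QQ D D') = 1
    have : (th1 D 0 : PP f f') = 1 := Subtype.ext (Prod.ext D.zero rfl)
    rw [this]
    rfl
  comm := by
    rintro a b u v rfl rfl
    rw [← QuotientGroup.mk_mul, ← QuotientGroup.mk_mul]
    congr 1
    exact Subtype.ext (Prod.ext (D.comm u v) rfl)

/-- A complement in the sum gives an isomorphism. -/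
theorem iso_of_complement (H : Subgroup (QQ D D')) (h1 : H ⊓ (FF D D').ker = ⊥) (h2 : H ⊔ (FF D D').ker = ⊤) :
    Nonempty (E ≃* E') := by
  set Hh : Subgroup (PP f f') := H.comap (QuotientGroup.mk' (DL D D')) with hHh
  have hmem : ∀ x : PP f f', x ∈ Hh ↔ (x : QQ D D') ∈ H := fun x => Iff.rfl
  -- elements of the subgroup with a trivial component
  have hbot : ∀ x : PP f f', x ∈ Hh → f x.1.1 = 1 → ∃ u, dl D D' u = x := by
    intro x hx hfx
    have h3 : (x : QQ D D') ∈ H ⊓ (FF D D').ker := ⟨hx, hfx⟩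
    rw [h1] at h3
    have h4 : (x : QQ D D') = 1 := h3
    exact (QuotientGroup.eq_one_iff x).mp h4
  -- the decomposition
  have hdec : ∀ x : PP f f', ∃ u, (x * (th1 D u)⁻¹) ∈ Hh := by
    intro x
    have h3 : (x : QQ D D') ∈ ((H ⊔ (FF D D').ker : Subgroup (QQ D D')) : Set (QQ D D')) := by
      rw [h2]
      exact Set.mem_univ _
    rw [Subgroup.mul_normal] at h3
    obtain ⟨a, ha, b, hb, hab⟩ := Set.mem_mul.mp h3
    obtain ⟨u, hu⟩ := (extModQ D D').ex (a := b) (by
      have : FF D D' b = 1 := hb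
      show ((FF D D' b : ↥Spor.M23) : Equiv.Perm GolayPt) = 1
      rw [this]
      rfl)
    refine ⟨u, ?_⟩
    rw [hmem, QuotientGroup.mk_mul, QuotientGroup.mk_inv]
    have e : ((th1 D u : PP f f') : QQ D D') = b := hu
    rw [e, ← hab]
    simpa using ha
  let p1 : ↥Hh →* E := (MonoidHom.fst E E').comp ((PP f f').subtype.comp Hh.subtype)
  let p2 : ↥Hh →* E' := (MonoidHom.snd E E').comp ((PP f f').subtype.comp Hh.subtype)
  have hp1 : Function.Bijective p1 := by
    constructor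
    · rw [injective_iff_map_eq_one]
      intro x hx
      have hx1 : x.1.1.1 = 1 := hx
      obtain ⟨u, hu⟩ := hbot x.1 x.2 (by rw [hx1, map_one])
      have h3 : th u = 1 := by
        have := congrArg (fun y => y.1.1) hu
        exact this.trans hx1
      have h4 : th' u = 1 := (D'.triv u).mpr ((D.triv u).mp h3)
      apply Subtype.ext
      apply Subtype.ext
      refine Prod.ext hx1 ?_
      show x.1.1.2 = 1
      rw [← h4]
      exact (congrArg (fun y => y.1.2) hu).symm
    · intro a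
      obtain ⟨a', ha'⟩ := D'.surj (f a)
      set x : PP f f' := ⟨(a, a'), by rw [mem_PP, ha']⟩ with hx
      obtain ⟨u, hu⟩ := hdec x
      have h3 : dl D D' u ∈ Hh := by
        rw [hmem]
        have : ((dl D D' u : PP f f') : QQ D D') = 1 := (QuotientGroup.eq_one_iff _).mpr ⟨u, rfl⟩
        rw [this]
        exact H.one_mem
      refine ⟨⟨_, Hh.mul_mem hu h3⟩, ?_⟩
      show (x * (th1 D u)⁻¹ * dl D D' u).1.1 = a
      show a * (th u)⁻¹ * th u = a
      group
  have hp2 : Function.Bijective p2 := by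
    constructor
    · rw [injective_iff_map_eq_one]
      intro x hx
      have hx1 : x.1.1.2 = 1 := hx
      have hx2 : f x.1.1.1 = f' x.1.1.2 := x.1.2
      obtain ⟨u, hu⟩ := hbot x.1 x.2 (by rw [hx2, hx1, map_one])
      have h3 : th' u = 1 := by
        have := congrArg (fun y => y.1.2) hu
        exact this.trans hx1
      have h4 : th u = 1 := (D.triv u).mpr ((D'.triv u).mp h3)
      apply Subtype.ext
      apply Subtype.ext
      refine Prod.ext ?_ hx1
      show x.1.1.1 = 1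
      rw [← h4]
      exact (congrArg (fun y => y.1.1) hu).symm
    · intro a'
      obtain ⟨a, ha⟩ := D.surj (f' a')
      set x : PP f f' := ⟨(a, a'), by rw [mem_PP, ha]⟩ with hx
      obtain ⟨u, hu⟩ := hdec x
      refine ⟨⟨_, hu⟩, ?_⟩
      show a' * (1 : E')⁻¹ = a'
      simp
  exact ⟨(MulEquiv.ofBijective p1 hp1).symm.trans (MulEquiv.ofBijective p2 hp2)⟩

/-! ### Nonsplit extensions are isomorphic -/

theorem evB_rho_add (B : ℕ) (ρ ρ' : ℕ → ZMod 2) (n : ℕ) :
    evB B (fun b => ρ b + ρ' b) n = evB B ρ n + evB B ρ' n := by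
  unfold evB
  rw [← Finset.sum_add_distrib]
  apply Finset.sum_congr rfl
  intro b _
  cases n.testBit b <;> simp

/-- The value of the class form of a nonsplit extension. -/
theorem cf_of_nonsplit {E : Type*} [Group E] [Finite E] {f : E →* ↥Spor.M23} {th : W → E} (D : CoData f th)
    (hns : ∀ H : Subgroup E, H ⊓ f.ker = ⊥ → H ⊔ f.ker ≠ ⊤) (gen : ℕ → E)
    (hgen : ∀ t, t < 2 → sg f (gen t) = g (gcT t)) (h0 : gen 0 ^ 3 = 1) (h1 : gen 1 ^ 3 = 1) (rep : ℕ → W)
    (hrep : ∀ s, s < nP → th (rep s) = evalW gen (relT (pST s))) : evB B (rhoOf rep) cf ≠ 0 := by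
  intro hc
  obtain ⟨A, hA1, hA2⟩ := cert_main D.surj rfl D.extMod (fun u => ⟨th u, rfl⟩) gen hgen h0 h1 rep hrep hc
  have h2 : ∀ a ∈ f.ker, a * a = 1 := by
    intro a ha
    obtain ⟨u, rfl⟩ := (D.ker_iff a).mp ha
    exact D.sq u
  obtain ⟨H, hH1, hH2⟩ := complement_of_odd f.ker f D.surj rfl h2 A (m := 1771) hA1 hA2 (by decide) (by decide) (by decide)
  exact hns H hH1 hH2

include D D' in
/-- **Two nonsplit extensions are isomorphic.** -/
theorem iso_of_nonsplit [Finite E] [Finite E'] (hns : ∀ H : Subgroup E, H ⊓ f.ker = ⊥ → H ⊔ f.ker ≠ ⊤)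
    (hns' : ∀ H : Subgroup E', H ⊓ f'.ker = ⊥ → H ⊔ f'.ker ≠ ⊤) : Nonempty (E ≃* E') := by
  have h2 : ∀ a, f a = 1 → a * a = 1 := by
    intro a ha
    obtain ⟨u, rfl⟩ := (D.ker_iff a).mp ha
    exact D.sq u
  have h2' : ∀ a, f' a = 1 → a * a = 1 := by
    intro a ha
    obtain ⟨u, rfl⟩ := (D'.ker_iff a).mp ha
    exact D'.sq u
  obtain ⟨gen, hgen, h0, h1⟩ := exists_gen D.surj h2
  obtain ⟨gen', hgen', h0', h1'⟩ := exists_gen D'.surj h2'
  obtain ⟨rep, hrep⟩ := exists_rep Cfsg.Agent.Lib.ExtCert.M23.C9.cert D.extMod fcert.pS_lt gen hgen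
  obtain ⟨rep', hrep'⟩ := exists_rep Cfsg.Agent.Lib.ExtCert.M23.C9.cert D'.extMod fcert.pS_lt gen' hgen'
  have hc := cf_of_nonsplit D hns gen hgen h0 h1 rep hrep
  have hc' := cf_of_nonsplit D' hns' gen' hgen' h0' h1' rep' hrep'
  -- the lifts in the sum
  have hfg : ∀ t, t < 2 → f (gen t) = f' (gen' t) := by
    intro t ht
    apply Subtype.ext
    exact (hgen t ht).trans (hgen' t ht).symm
  let gen2 : ℕ → QQ D D' := fun t =>
    if h : t < 2 then ((⟨(gen t, gen' t), hfg t h⟩ : PP f f') : QQ D D') else 1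
  have hgen2a : ∀ t (h : t < 2), gen2 t = ((⟨(gen t, gen' t), hfg t h⟩ : PP f f') : QQ D D') := by
    intro t h
    simp only [gen2, dif_pos h]
  have hword : ∀ w : List ℕ, (∀ t ∈ w, t < 2) → ∃ h : (evalW gen w, evalW gen' w) ∈ PP f f',
      evalW gen2 w = ((⟨(evalW gen w, evalW gen' w), h⟩ : PP f f') : QQ D D') := by
    intro w
    induction w with
    | nil =>
      intro _
      refine ⟨(PP f f').one_mem, ?_⟩
      rfl
    | cons t w ih =>
      intro hw
      have ht := hw t List.mem_cons_self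
      obtain ⟨h3, h4⟩ := ih (fun t' ht' => hw t' (List.mem_cons_of_mem _ ht'))
      have h5 : (evalW gen (t :: w), evalW gen' (t :: w)) ∈ PP f f' :=
        (PP f f').mul_mem h3 (show (gen t, gen' t) ∈ PP f f' from hfg t ht)
      refine ⟨h5, ?_⟩
      show evalW gen2 w * gen2 t = _
      rw [h4, hgen2a t ht, ← QuotientGroup.mk_mul]
      rfl
  have hgen3 : ∀ t, t < 2 → sg (FF D D') (gen2 t) = g (gcT t) := by
    intro t ht
    rw [hgen2a t ht]
    exact hgen t ht
  have hpow : ∀ t, (ht : t < 2) → gen t ^ 3 = 1 → gen' t ^ 3 = 1 → gen2 t ^ 3 = 1 := by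
    intro t ht h3 h4
    rw [hgen2a t ht, ← QuotientGroup.mk_pow]
    have : (⟨(gen t, gen' t), hfg t ht⟩ : PP f f') ^ 3 = 1 := Subtype.ext (Prod.ext h3 h4)
    rw [this]
    rfl
  have hrep2 : ∀ s, s < nP → Rq D D' (evalW gen2 (relT (pST s))) (rep s + rep' s) := by
    intro s hs
    obtain ⟨h3, h4⟩ := hword _ (Cfsg.Agent.Lib.ExtCert.M23.C9.cert.rel_lt _ (fcert.pS_lt s hs))
    rw [h4]
    have h5 := hrep s hs
    have h6 := hrep' s hs
    have h7 := key_eq D D' (rep s) (rep' s) (by rw [mem_PP, D.map, D'.map])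
    show ((th1 D (rep s + rep' s) : PP f f') : QQ D D') = _
    rw [← h7]
    congr 1
    exact Subtype.ext (Prod.ext h5 h6)
  have hcf2 : evB B (rhoOf (fun s => rep s + rep' s)) cf = 0 := by
    have e : rhoOf (fun s => rep s + rep' s) = fun b => rhoOf rep b + rhoOf rep' b := rfl
    rw [e, evB_rho_add]
    have e2 : ∀ a b : ZMod 2, a ≠ 0 → b ≠ 0 → a + b = 0 := by decide
    exact e2 _ _ hc hc'
  obtain ⟨A, hA1, hA2⟩ := cert_main (FF_surj D D') rfl (extModQ D D') (fun u => ⟨_, rfl⟩) gen2 hgen3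
    (hpow 0 (by decide) h0 h0') (hpow 1 (by decide) h1 h1') _ hrep2 hcf2
  have h2Q : ∀ a ∈ (FF D D').ker, a * a = 1 := by
    intro a ha
    obtain ⟨u, hu⟩ := (extModQ D D').ex (a := a) (by
      have : FF D D' a = 1 := ha
      show ((FF D D' a : ↥Spor.M23) : Equiv.Perm GolayPt) = 1
      rw [this]
      rfl)
    have h3 := (extModQ D D').inv_eq hu
    calc a * a = a * a⁻¹ := by rw [h3]
      _ = 1 := mul_inv_cancel a
  obtain ⟨H, hH1, hH2⟩ := complement_of_odd (FF D D').ker (FF D D') (FF_surj D D') rfl h2Q A (m := 1771) hA1 hA2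
    (by decide) (by decide) (by decide)
  exact iso_of_complement D D' H hH1 hH2

end Baer

end Cfsg.Agent.Lib.ExtCert.M23.Baer
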