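/-!
# Bits of a number
-/

set_option autoImplicit false

namespace Cfsg.Agent.Lib.ExtCert.M23.Bit

/-- A bit of a number. -/
def bitT (k j : Nat) : Bool := Nat.beq (Nat.land (Nat.shiftRight k j) 1) 1

end Cfsg.Agent.Lib.ExtCert.M23.Bit
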