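/-!
# Relators of a Cayley graph
-/

set_option autoImplicit false

namespace Cfsg.Agent.Lib.ExtCert.M23.R7

/-- The relators. -/
def relT (j : Nat) : List Nat :=
  cond (Nat.beq j 0) [0, 0, 0, 0, 0, 0, 0] <|
  cond (Nat.beq j 1) [1, 1, 1] <|
  cond (Nat.beq j 2) [0, 1, 1, 0, 1, 1, 0, 1, 1, 0, 1, 1] <|
  cond (Nat.beq j 3) [0, 0, 1, 0, 1, 1, 0, 0, 1, 0, 1, 1] <|
  cond (Nat.beq j 4) [0, 0, 0, 1, 0, 0, 0, 1, 0, 0, 0, 1, 0, 0, 0, 1] <|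
  cond (Nat.beq j 5) [0, 0, 1, 0, 0, 1, 1, 0, 1, 0, 0, 1, 0, 0, 1, 1, 0, 1] <|
  cond (Nat.beq j 6) [0, 0, 1, 1, 0, 1, 0, 1, 1, 0, 0, 1, 1, 0, 1, 0, 1, 1] <|
  cond (Nat.beq j 7) [0, 0, 1, 0, 1, 0, 0, 1, 0, 1, 0, 0, 1, 0, 1, 0, 0, 1, 0, 1] <|
  cond (Nat.beq j 8) [0, 0, 0, 0, 0, 1, 0, 1, 0, 1, 0, 0, 0, 0, 0, 1, 0, 1, 0, 1] <|
  cond (Nat.beq j 9) [0, 0, 0, 0, 1, 0, 1, 0, 1, 0, 1, 0, 0, 0, 0, 1, 0, 1, 0, 1, 0, 1] <|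
  cond (Nat.beq j 10) [0, 0, 1, 0, 0, 1, 0, 0, 1, 0, 0, 1, 0, 0, 1, 0, 0, 1, 0, 0, 1, 0, 0, 1] <|
  cond (Nat.beq j 11) [0, 0, 1, 1, 0, 0, 1, 1, 0, 0, 1, 1, 0, 0, 1, 1, 0, 0, 1, 1, 0, 0, 1, 1] <|
  cond (Nat.beq j 12) [0, 0, 0, 0, 1, 1, 0, 0, 0, 0, 1, 1, 0, 0, 0, 0, 1, 1, 0, 0, 0, 0, 1, 1] <|
  cond (Nat.beq j 13) [0, 0, 1, 1, 0, 1, 0, 0, 1, 1, 0, 1, 0, 0, 1, 1, 0, 1, 0, 0, 1, 1, 0, 1] <|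
  cond (Nat.beq j 14) [0, 0, 0, 1, 0, 1, 1, 0, 0, 0, 1, 1, 0, 0, 0, 1, 0, 1, 1, 0, 0, 0, 1, 1] <|
  cond (Nat.beq j 15) [0, 0, 0, 1, 1, 0, 0, 1, 1, 0, 0, 1, 0, 0, 0, 1, 1, 0, 0, 1, 1, 0, 0, 1] <|
  cond (Nat.beq j 16) [0, 0, 0, 0, 1, 0, 1, 0, 1, 0, 1, 1, 0, 0, 0, 0, 1, 0, 1, 0, 1, 0, 1, 1] <|
  cond (Nat.beq j 17) [0, 0, 0, 1, 1, 0, 1, 0, 1, 0, 1, 1, 0, 0, 0, 1, 1, 0, 1, 0, 1, 0, 1, 1] <|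
  cond (Nat.beq j 18) [0, 0, 1, 0, 0, 1, 0, 1, 1, 0, 1, 1, 0, 0, 1, 0, 0, 1, 0, 1, 1, 0, 1, 1] <|
  cond (Nat.beq j 19) [0, 0, 0, 0, 1, 1, 0, 1, 0, 1, 0, 1, 0, 0, 0, 0, 1, 1, 0, 1, 0, 1, 0, 1] <|
  cond (Nat.beq j 20) [0, 0, 0, 0, 0, 0, 1, 0, 1, 0, 0, 1, 1, 0, 0, 0, 0, 0, 0, 1, 0, 1, 0, 0, 1, 1] <|
  cond (Nat.beq j 21) [0, 0, 0, 1, 0, 0, 1, 0, 0, 0, 1, 0, 0, 1, 0, 0, 0, 1, 0, 0, 1, 0, 0, 0, 1, 0, 0, 1] <|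
  cond (Nat.beq j 22) [0, 0, 0, 0, 1, 0, 1, 1, 0, 0, 1, 0, 0, 1, 1, 0, 0, 0, 0, 1, 0, 1, 1, 0, 0, 1, 0, 0, 1, 1] <|
  []

/-- The generators. -/
def gcT (t : Nat) : Nat := cond (Nat.beq t 0) 975767773913784439881177228465248706 972851344296810216010528671215036450

/-- The relators of the parameters. -/
def pST (s : Nat) : Nat :=
  cond (Nat.beq s 0) 2 <|
  cond (Nat.beq s 1) 3 <|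
  cond (Nat.beq s 2) 4 <|
  cond (Nat.beq s 3) 5 <|
  cond (Nat.beq s 4) 8 <|
  cond (Nat.beq s 5) 10 <|
  cond (Nat.beq s 6) 15 <|
  0

/-- The number of vertices. -/
def nV : Nat := 2688

/-- The number of relators. -/
def nR : Nat := 23

/-- The number of parameters. -/
def nP : Nat := 7

/-- The number of bits of the parameters. -/
def B : Nat := 168

end Cfsg.Agent.Lib.ExtCert.M23.R7
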