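import Cfsg.Agent.Lib.ExtCert.Main
import Cfsg.Agent.Lib.ExtCert.M23.D9
import Cfsg.Agent.Lib.ExtCert.M23.R9
import Cfsg.Agent.Lib.SchurCert.Bits

/-!
# The checks of the Cayley graph of a subgroup of order 5760 of `M23`
-/

set_option autoImplicit false

namespace Cfsg.Agent.Lib.ExtCert.M23.C9

open Cfsg.Agent.Lib.ExtCert.M23.D9 Cfsg.Agent.Lib.ExtCert.M23.R9 Cfsg.Agent.Lib.ExtCert.Solve
open Cfsg.Agent.Lib.ExtCert.Main Cfsg.Agent.Lib.SchurCert.Elim Cfsg.Agent.Lib.SchurCert.Bits
open Cfsg.Agent.Lib.Golay.Core Cfsg.Agent.Lib.Golay.Perm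

/-- The check of a vertex. -/
noncomputable def vertOK (v : Nat) : Bool :=
  Nat.blt (nxT v 0) nV && Nat.blt (nxT v 1) nV && validPerm (FcT v) &&
    (Nat.beq v 0 || (Nat.blt (parV parT v) v && Nat.beq (nxT (parV parT v) (pgV parT v)) v)) &&
    allUpTo (fun q => Nat.beq (img (FcT (nxT v 0)) q) (img (gcT 0) (img (FcT v) q)) &&
      Nat.beq (img (FcT (nxT v 1)) q) (img (gcT 1) (img (FcT v) q))) 24 &&
    Nat.blt (srtT v) nV &&
    (!(Nat.blt (Nat.succ v) nV) || Nat.blt (keyF (FcT (srtT v))) (keyF (FcT (srtT (Nat.succ v)))))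

theorem vert_all : allB (fun v => !(Nat.blt v nV) || vertOK v) 13 0 = true := by decide +kernel

theorem vert_spec {v : Nat} (hv : v < nV) : vertOK v = true := by
  have h := allB_spec _ _ vert_all v (Nat.zero_le v) (lt_of_lt_of_le hv (by decide))
  simpa [Nat.blt_eq.mpr hv] using h

/-- The number of variables. -/
def nN : Nat := 2 * nV + nR

theorem var_all :
    allB (fun x => !(Nat.blt x nN) || varOK nV nR nP B nxT parT datT metT FcT pST relT x) 14 0 = true := by
  decide +kernel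

theorem vert_unfold {v : Nat} (hv : v < nV) :
    nxT v 0 < nV ∧ nxT v 1 < nV ∧ validPerm (FcT v) = true ∧
    (v = 0 ∨ (parV parT v < v ∧ nxT (parV parT v) (pgV parT v) = v)) ∧
    (∀ q, q < 24 → img (FcT (nxT v 0)) q = img (gcT 0) (img (FcT v) q) ∧
      img (FcT (nxT v 1)) q = img (gcT 1) (img (FcT v) q)) ∧
    srtT v < nV ∧ (v + 1 < nV → keyF (FcT (srtT v)) < keyF (FcT (srtT (v + 1)))) := by
  have h := vert_spec hv
  simp only [vertOK, Bool.and_eq_true, Bool.or_eq_true] at h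
  obtain ⟨⟨⟨⟨⟨⟨a, b⟩, c⟩, d⟩, e⟩, f⟩, k⟩ := h
  refine ⟨Nat.blt_eq.mp a, Nat.blt_eq.mp b, c, ?_, ?_, Nat.blt_eq.mp f, ?_⟩
  · rcases d with d | ⟨d1, d2⟩
    · exact Or.inl (Nat.eq_of_beq_eq_true d)
    · exact Or.inr ⟨Nat.blt_eq.mp d1, Nat.eq_of_beq_eq_true d2⟩
  · intro q hq
    have h1 := allUpTo_iff.mp e q hq
    simp only [Bool.and_eq_true] at h1
    exact ⟨Nat.eq_of_beq_eq_true h1.1, Nat.eq_of_beq_eq_true h1.2⟩
  · intro h2
    rcases k with k | k
    · have h3 : Nat.blt (Nat.succ v) nV = true := Nat.blt_eq.mpr h2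
      rw [h3] at k
      exact absurd k (by decide)
    · exact Nat.blt_eq.mp k

theorem gvalid_all : ∀ t, t < 2 → validPerm (gcT t) = true := by decide +kernel

theorem F0_all : ∀ q, q < 24 → img (FcT 0) q = q := by decide +kernel

theorem rel_lt_all : ∀ j, j < nR → ∀ t ∈ relT j, t < 2 := by decide +kernel

theorem rel_loop_all : ∀ j, j < nR → wEnd nxT (relT j) 0 = 0 := by decide +kernel

/-- The check of the table. -/
theorem cert : Cert nV nR nP B nxT parT datT metT FcT gcT pST relT where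
  hnV := by decide
  hB := by decide
  hnR := by decide
  nx_lt := by
    intro v t hv ht
    obtain ⟨a, b, -⟩ := vert_unfold hv
    have ht' : t = 0 ∨ t = 1 := by omega
    rcases ht' with rfl | rfl
    · exact a
    · exact b
  tree := by
    intro v h0 hv
    obtain ⟨-, -, -, d, -⟩ := vert_unfold hv
    rcases d with d | d
    · omega
    · exact d
  valid := fun v hv => (vert_unfold hv).2.2.1
  gvalid := gvalid_all
  F0 := F0_all
  Fstep := by
    intro v t q hv ht hq
    obtain ⟨-, -, -, -, e, -⟩ := vert_unfold hv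
    have ht' : t = 0 ∨ t = 1 := by omega
    rcases ht' with rfl | rfl
    · exact (e q hq).1
    · exact (e q hq).2
  rel_lt := rel_lt_all
  rel_loop := rel_loop_all
  var := by
    intro x hx
    have h := allB_spec _ _ var_all x (Nat.zero_le x) (lt_of_lt_of_le hx (by decide))
    have h2 : Nat.blt x nN = true := Nat.blt_eq.mpr hx
    simp only [h2, Bool.not_true, Bool.false_or] at h
    exact h

/-- The vertices are different. -/
theorem inj : ∀ u v, u < nV → v < nV → g (FcT u) = g (FcT v) → u = v :=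
  inj_of_srt (fun v hv => (vert_unfold hv).2.2.1) (fun i hi => (vert_unfold hi).2.2.2.2.2.1)
    (fun i hi => (vert_unfold (Nat.lt_of_succ_lt hi)).2.2.2.2.2.2 hi)

end Cfsg.Agent.Lib.ExtCert.M23.C9
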