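import Cfsg.Agent.Lib.ExtCert.Main
import Cfsg.Agent.Lib.Golay.OutGroups
import Cfsg.Agent.Lib.Golay.Basic
import Cfsg.Agent.Lib.Solvable.Gaschutz

/-!
# From a subgroup of odd index to the whole extension of `M23`
-/

set_option autoImplicit false

namespace Cfsg.Agent.Lib.ExtCert.M23.Wrap

open Cfsg Cfsg.Agent.Lib.ExtCert.Basic Cfsg.Agent.Lib.ExtCert.Solve Cfsg.Agent.Lib.ExtCert.Final
open Cfsg.Agent.Lib.ExtCert.Main Cfsg.Agent.Lib.SchurCert.Elim Cfsg.Agent.Lib.SchurCert.Lift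
open Cfsg.Agent.Lib.Golay.Core Cfsg.Agent.Lib.Golay.Perm Cfsg.Agent.Lib.Golay.OutGroups

/-- The powers of the generators. -/
theorem gen_pow {nV nR nP B : ℕ} {nx : ℕ → ℕ → ℕ} {par dat met Fc gc pS : ℕ → ℕ} {rel : ℕ → List ℕ}
    (C : Cert nV nR nP B nx par dat met Fc gc pS rel) {j o t : ℕ} (hj : j < nR) (ht : t < 2)
    (h : rel j = List.replicate o t) : g (gc t) ^ o = 1 := by
  have h1 := sigma_evalW (σ := MonoidHom.id (Equiv.Perm GolayPt)) C (fun t => g (gc t)) (fun _ _ => rfl) (C.rel_lt j hj) C.hnV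
  rw [C.rel_loop j hj, tT_zero, mul_one, g_zero C, h, Cfsg.Agent.Lib.SchurCert.Upper.evalW_replicate] at h1
  exact h1

section Ext

variable {E : Type*} [Group E] [Finite E]

theorem comm_of_square (N : Subgroup E) (h2 : ∀ a ∈ N, a * a = 1) : IsMulCommutative N := by
  refine ⟨⟨fun a b => Subtype.ext ?_⟩⟩
  have h3 := h2 (a.1 * b.1) (N.mul_mem a.2 b.2)
  have h4 := h2 a.1 a.2
  have h5 := h2 b.1 b.2
  show a.1 * b.1 = b.1 * a.1
  calc a.1 * b.1 = a.1 * b.1 * (a.1 * b.1 * (b.1 * a.1)) := by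
        have : a.1 * b.1 * (b.1 * a.1) = 1 := by
          rw [mul_assoc, ← mul_assoc b.1, h5, one_mul, h4]
        rw [this, mul_one]
    _ = (a.1 * b.1 * (a.1 * b.1)) * (b.1 * a.1) := by group
    _ = b.1 * a.1 := by rw [h3, one_mul]

/-- A complement over a subgroup of odd index in `M23` gives a complement in the whole extension. -/
theorem complement_of_odd (N : Subgroup E) [hN : N.Normal] (f : E →* ↥Spor.M23) (hf : Function.Surjective f)
    (hker : f.ker = N) (h2 : ∀ a ∈ N, a * a = 1) (A : Subgroup E) {n m : ℕ} (hA : Nat.card A = n)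
    (htriv : ∀ a ∈ A, f a = 1 → a = 1) (hn : m * n = 10200960) (hn0 : 0 < n) (hm : Nat.Coprime 2 m) :
    ∃ H : Subgroup E, H ⊓ N = ⊥ ∧ H ⊔ N = ⊤ := by
  haveI := comm_of_square N h2
  have hAN : A ⊓ N = ⊥ := by
    rw [eq_bot_iff]
    intro a ha
    have h3 : f a = 1 := by
      have : a ∈ f.ker := by
        rw [hker]
        exact ha.2
      exact this
    exact htriv a ha.1 h3
  have hU : (A.map f).comap f = N ⊔ A := by
    rw [Subgroup.comap_map_eq, hker, sup_comm]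
  have hcard : Nat.card (A.map f) = n := by
    rw [← hA]
    let φ : A →* ↥Spor.M23 := f.comp A.subtype
    have hφ : Function.Injective φ := by
      rw [injective_iff_map_eq_one]
      intro a ha
      exact Subtype.ext (htriv a.1 a.2 ha)
    have h4 : A.map f = φ.range := by
      ext x
      simp only [Subgroup.mem_map, MonoidHom.mem_range]
      constructor
      · rintro ⟨a, ha, rfl⟩
        exact ⟨⟨a, ha⟩, rfl⟩
      · rintro ⟨a, rfl⟩
        exact ⟨a.1, a.2, rfl⟩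
    rw [h4]
    exact (Nat.card_congr (MonoidHom.ofInjective hφ).toEquiv).symm
  have hidx : (N ⊔ A).index = m := by
    rw [← hU, Subgroup.index_comap_of_surjective _ hf]
    have h5 := Subgroup.index_mul_card (A.map f)
    rw [hcard, card_M23, ← hn] at h5
    exact Nat.eq_of_mul_eq_mul_right hn0 h5
  have hp : IsPGroup 2 N := by
    intro a
    refine ⟨1, Subtype.ext ?_⟩
    show (a.1) ^ 2 ^ 1 = 1
    rw [pow_one, pow_two]
    exact h2 a.1 a.2
  obtain ⟨k, hk⟩ := IsPGroup.iff_card.mp hp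
  have hcop : (Nat.card N).Coprime (N ⊔ A).index := by
    rw [hk, hidx]
    exact Nat.Coprime.pow_left k hm
  obtain ⟨H, hH⟩ := Cfsg.Agent.Lib.Solvable.Gaschutz.gaschutz_exists N (le_sup_left : N ≤ N ⊔ A) hcop hAN rfl
  refine ⟨H, ?_, ?_⟩
  · rw [inf_comm]
    exact hH.disjoint.eq_bot
  · rw [sup_comm]
    exact hH.sup_eq_top

/-- Lifts of exact order. -/
theorem exists_lifts (f : E →* ↥Spor.M23) (hf : Function.Surjective f) (h2 : ∀ a, f a = 1 → a * a = 1) {P : ℕ} {o : ℕ}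
    (hP : checkAut P = true) (hP23 : img P 23 = 23) (ho : g P ^ o = 1) (hodd : Nat.Coprime o 2) :
    ∃ y : E, ((f y : ↥Spor.M23) : Equiv.Perm GolayPt) = g P ∧ y ^ o = 1 := by
  have h1 : (⟨g P, g_mem_M23 hP hP23⟩ : ↥Spor.M23) ^ o = 1 := Subtype.ext ho
  obtain ⟨y, hy1, hy2⟩ := Cfsg.Agent.Lib.SchurCert.Upper.exists_lift f hf (M := 2)
    (fun x hx => by
      rw [pow_two]
      exact h2 x hx) hodd h1
  exact ⟨y, by rw [hy1], hy2⟩

/-- Values of the parameters. -/
theorem exists_rep {nV nR nP B : ℕ} {nx : ℕ → ℕ → ℕ} {par dat met Fc gc pS : ℕ → ℕ} {rel : ℕ → List ℕ}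
    {σ : E →* Equiv.Perm GolayPt} {K : AddSubgroup W} {Rp : E → W → Prop}
    (C : Cert nV nR nP B nx par dat met Fc gc pS rel) (MD : ExtMod σ K Rp) (hpS : ∀ s, s < nP → pS s < nR)
    (gen : ℕ → E) (hgen : ∀ t, t < 2 → σ (gen t) = g (gc t)) :
    ∃ rep : ℕ → W, ∀ s, s < nP → Rp (evalW gen (rel (pS s))) (rep s) := by
  have h : ∀ s, ∃ u, s < nP → Rp (evalW gen (rel (pS s))) u := by
    intro s
    by_cases hs : s < nP
    · have h1 := sigma_evalW C gen hgen (C.rel_lt _ (hpS s hs)) C.hnV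
      rw [C.rel_loop _ (hpS s hs), tT_zero, mul_one, g_zero C] at h1
      obtain ⟨u, hu⟩ := MD.ex h1
      exact ⟨u, fun _ => hu⟩
    · exact ⟨0, fun h => absurd h hs⟩
  choose rep hrep using h
  exact ⟨rep, hrep⟩

end Ext

end Cfsg.Agent.Lib.ExtCert.M23.Wrap
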