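import Cfsg.Agent.Lib.ExtCert.M23.F9
import Cfsg.Agent.Lib.ExtCert.M23.Wrap

/-!
# Extensions of `M23` by the cocode module: the certificate and the sum of two extensions
-/

set_option autoImplicit false

namespace Cfsg.Agent.Lib.ExtCert.M23.Cocode

open Cfsg Cfsg.Agent.Lib.ExtCert.Basic Cfsg.Agent.Lib.ExtCert.Solve Cfsg.Agent.Lib.ExtCert.Final
open Cfsg.Agent.Lib.ExtCert.Main Cfsg.Agent.Lib.ExtCert.M23.Wrap
open Cfsg.Agent.Lib.ExtCert.M23.D9 Cfsg.Agent.Lib.ExtCert.M23.R9 Cfsg.Agent.Lib.ExtCert.M23.F9
open Cfsg.Agent.Lib.SchurCert.Lift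
open Cfsg.Agent.Lib.Golay.Core Cfsg.Agent.Lib.Golay.Perm Cfsg.Agent.Lib.Golay.OutGroups

/-- The unit word at the extra point. -/
noncomputable def eNone : W := Pi.single none 1

theorem W_add_self' (u : W) : u + u = 0 := W_add_self u

/-- The kernel of the cocode module. -/
noncomputable def KK : AddSubgroup W where
  carrier := {w | w ∈ golayCode ∨ w + eNone ∈ golayCode}
  zero_mem' := Or.inl (golayCode.zero_mem)
  add_mem' := by
    have e : ∀ a b c : W, a + b = a + c + (c + b) := by
      intro a b c
      rw [add_assoc, ← add_assoc c, W_add_self, zero_add]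
    rintro a b (ha | ha) (hb | hb)
    · exact Or.inl (golayCode.add_mem ha hb)
    · right
      rw [add_assoc]
      exact golayCode.add_mem ha hb
    · right
      rw [add_right_comm]
      exact golayCode.add_mem ha hb
    · left
      rw [e a b eNone, add_comm eNone b]
      exact golayCode.add_mem ha hb
  neg_mem' := by
    intro a ha
    have : -a = a := by
      funext p
      exact ZModModule.neg_eq_self (a p)
    rw [this]
    exact ha

theorem mem_KK {w : W} : w ∈ KK ↔ (w ∈ golayCode ∨ w + eNone ∈ golayCode) := Iff.rfl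

theorem mem_of_isCode {d : ℕ} (h : isCode d = true) : wordOf d ∈ golayCode := by
  obtain ⟨m, hm, rfl⟩ := isCode_iff.mp h
  exact mem_golayCode_iff.mpr ⟨m, hm, rfl⟩

theorem dotW_eNone (d : W) : dotW d eNone = d none := by
  unfold dotW eNone
  rw [Finset.sum_eq_single (none : GolayPt)]
  · simp
  · intro p _ hp
    simp [Pi.single_apply, hp]
  · intro h
    exact absurd (Finset.mem_univ _) h

/-- The words vanishing at the extra point are orthogonal to `KK`. -/
theorem dot_KK {d : ℕ} (h1 : isCode d = true) (h2 : Nat.testBit d 23 = false) {k : W} (hk : k ∈ KK) :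
    dotW (wordOf d) k = 0 := by
  have e : idx (none : GolayPt) = 23 := rfl
  have h3 : wordOf d none = 0 := by
    simp [wordOf, e, h2]
  rcases hk with hk | hk
  · exact Cfsg.Agent.Lib.Golay.Basic.dot_eq_zero (mem_of_isCode h1) hk
  · have h4 : dotW (wordOf d) (k + eNone) = 0 := Cfsg.Agent.Lib.Golay.Basic.dot_eq_zero (mem_of_isCode h1) hk
    rw [dotW_add, dotW_eNone, h3, add_zero] at h4
    exact h4

theorem DG_code : ∀ d ∈ DG, isCode d = true ∧ Nat.testBit d 23 = false := by decide +kernel

theorem KL_mem : ∀ d ∈ KL, isCode d = true ∨ isCode (d ^^^ 8388608) = true := by decide +kernel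

theorem fus_d1 : ∀ c ∈ fusL, isCode c.d1 = true ∧ Nat.testBit c.d1 23 = false := by decide +kernel

theorem Pg_aut : checkAut Pg = true := by decide +kernel

theorem Pg_23 : img Pg 23 = 23 := by decide +kernel

theorem gc0_aut : checkAut (gcT 0) = true := by decide +kernel

theorem gc1_aut : checkAut (gcT 1) = true := by decide +kernel

theorem gc0_23 : img (gcT 0) 23 = 23 := by decide +kernel

theorem gc1_23 : img (gcT 1) 23 = 23 := by decide +kernel

/-! ### Words orthogonal to the words of the code vanishing at the extra point -/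

/-- The tables of the two dual systematic bases. -/
theorem JL_table : ∀ i, i < 13 → ∀ j, j < 13 →
    Nat.testBit (KL.getD i 0) (JL.getD j 0) = decide (i = j) := by decide +kernel

theorem DG_table : ∀ i, i < 11 → ∀ j, j < 11 →
    Nat.testBit (DG.getD i 0) (pivDG.getD j 0) = decide (i = j) := by decide +kernel

theorem points_cover : ∀ q, q < 24 → (∃ j, j < 13 ∧ JL.getD j 0 = q) ∨ (∃ j, j < 11 ∧ pivDG.getD j 0 = q) := by
  decide +kernel

theorem JL_lt : ∀ j, j < 13 → JL.getD j 0 < 24 := by decide +kernel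

theorem piv_lt : ∀ j, j < 11 → pivDG.getD j 0 < 24 := by decide +kernel

theorem DG_len : DG.length = 11 := by decide

theorem wordOf_eNone : wordOf 8388608 = eNone := by
  funext p
  revert p
  decide +kernel

theorem KL_KK {d : ℕ} (hd : d ∈ KL) : wordOf d ∈ KK := by
  rcases KL_mem d hd with h | h
  · exact Or.inl (mem_of_isCode h)
  · right
    have := mem_of_isCode h
    rwa [wordOf_xor, wordOf_eNone] at this

theorem KL_getD {i : ℕ} (hi : i < 13) : KL.getD i 0 ∈ KL := by
  have h : ∀ i, i < 13 → KL.getD i 0 ∈ KL := by decide +kernel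
  exact h i hi

theorem DG_getD {i : ℕ} (hi : i < 11) : DG.getD i 0 ∈ DG := by
  have h : ∀ i, i < 11 → DG.getD i 0 ∈ DG := by decide +kernel
  exact h i hi

theorem word_pt {d q : ℕ} (hq : q < 24) : wordOf d (pt q) = if d.testBit q = true then 1 else 0 := by
  simp only [wordOf, idx_pt hq]

/-- **Duality**. -/
theorem mem_KK_of_dot (u : W) (hu : ∀ d ∈ DG, dotW (wordOf d) u = 0) : u ∈ KK := by
  set c : W := fun p => ∑ i ∈ Finset.range 13, u (pt (JL.getD i 0)) * wordOf (KL.getD i 0) p with hc
  have hcK : c ∈ KK := by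
    have : c = ∑ i ∈ Finset.range 13, fun p => u (pt (JL.getD i 0)) * wordOf (KL.getD i 0) p := by
      funext p
      simp [hc, Finset.sum_apply]
    rw [this]
    apply AddSubgroup.sum_mem
    intro i hi
    have hi' := Finset.mem_range.mp hi
    have e : ∀ a : ZMod 2, a = 0 ∨ a = 1 := by decide
    rcases e (u (pt (JL.getD i 0))) with h | h
    · rw [h]
      have : (fun p => (0 : ZMod 2) * wordOf (KL.getD i 0) p) = 0 := by
        funext p
        simp
      rw [this]
      exact KK.zero_mem
    · rw [h]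
      have : (fun p => (1 : ZMod 2) * wordOf (KL.getD i 0) p) = wordOf (KL.getD i 0) := by
        funext p
        simp
      rw [this]
      exact KL_KK (KL_getD hi')
  -- the difference vanishes on the first set of points
  set u' : W := u + c with hu'
  have hA : ∀ j, j < 13 → u' (pt (JL.getD j 0)) = 0 := by
    intro j hj
    have hJ := JL_lt j hj
    simp only [hu', hc, Pi.add_apply]
    rw [Finset.sum_eq_single j]
    · rw [word_pt hJ, JL_table j hj j hj]
      simp only [decide_true, if_true, mul_one]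
      exact CharTwo.add_self_eq_zero _
    · intro i hi hij
      rw [word_pt hJ, JL_table i (Finset.mem_range.mp hi) j hj]
      simp [hij]
    · intro h
      exact absurd (Finset.mem_range.mpr hj) h
  have hB : ∀ t, t < 11 → dotW (wordOf (DG.getD t 0)) u' = 0 := by
    intro t ht
    have hd := DG_getD ht
    rw [hu', dotW_add, hu _ hd, zero_add]
    obtain ⟨h1, h2⟩ := DG_code _ hd
    exact dot_KK h1 h2 hcK
  have hC : ∀ t, t < 11 → u' (pt (pivDG.getD t 0)) = 0 := by
    intro t ht
    have h1 := hB t ht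
    unfold dotW at h1
    rw [Finset.sum_eq_single (pt (pivDG.getD t 0))] at h1
    · rw [word_pt (piv_lt t ht), DG_table t ht t ht] at h1
      simpa using h1
    · intro p _ hp
      have hq := idx_lt p
      rcases points_cover _ hq with ⟨j, hj, h2⟩ | ⟨j, hj, h2⟩
      · have : u' p = 0 := by
          have h3 := hA j hj
          rwa [h2, pt_idx] at h3
        rw [this, mul_zero]
      · have hjt : j ≠ t := by
          rintro rfl
          apply hp
          rw [h2, pt_idx]
        have h4 : wordOf (DG.getD t 0) p = 0 := by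
          have h5 := word_pt (d := DG.getD t 0) (piv_lt j hj)
          rw [h2, pt_idx, ← h2, DG_table t ht j hj] at h5
          rw [h5]
          have : t ≠ j := fun h => hjt h.symm
          simp [this]
        rw [h4, zero_mul]
    · intro h
      exact absurd (Finset.mem_univ _) h
  have hzero : u' = 0 := by
    funext p
    have hq := idx_lt p
    rcases points_cover _ hq with ⟨j, hj, h2⟩ | ⟨j, hj, h2⟩
    · have h3 := hA j hj
      rwa [h2, pt_idx] at h3
    · have h3 := hC j hj
      rwa [h2, pt_idx] at h3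
  have hfinal : u = c := by
    have h3 : u + c + c = c := by rw [← hu', hzero, zero_add]
    rwa [add_assoc, W_add_self, add_zero] at h3
  rw [hfinal]
  exact hcK

/-! ### The module -/

/-- The data of an extension by the cocode module. -/
structure CoData {E : Type*} [Group E] (f : E →* ↥Spor.M23) (th : W → E) : Prop where
  surj : Function.Surjective f
  add : ∀ u v, th (u + v) = th u * th v
  ker_iff : ∀ a, f a = 1 ↔ ∃ u, th u = a
  conj : ∀ u g, th (u ∘ ⇑((f g : ↥Spor.M23) : Equiv.Perm GolayPt)⁻¹) = g * th u * g⁻¹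
  triv : ∀ u, th u = 1 ↔ u ∈ KK

/-- The permutation action. -/
noncomputable def sg {E : Type*} [Group E] (f : E →* ↥Spor.M23) : E →* Equiv.Perm GolayPt := Spor.M23.subtype.comp f

section Data

variable {E : Type*} [Group E] {f : E →* ↥Spor.M23} {th : W → E}

theorem CoData.zero (D : CoData f th) : th 0 = 1 := by
  have h := D.add 0 0
  rw [add_zero] at h
  exact (mul_eq_left.mp h.symm)

theorem CoData.sq (D : CoData f th) (u : W) : th u * th u = 1 := by
  rw [← D.add, W_add_self, D.zero]

theorem CoData.comm (D : CoData f th) (u v : W) : th u * th v = th v * th u := by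
  rw [← D.add, ← D.add, add_comm]

theorem CoData.map (D : CoData f th) (u : W) : f (th u) = 1 := (D.ker_iff _).mpr ⟨u, rfl⟩

/-- The relation of the module. -/
theorem CoData.extMod (D : CoData f th) : ExtMod (sg f) KK (fun a u => th u = a) where
  mul := by
    rintro a b u v rfl rfl
    exact D.add u v
  conj := by
    rintro a u b rfl
    exact D.conj u b
  ex := by
    intro a ha
    exact (D.ker_iff a).mp (Subtype.ext ha)
  ker := by
    rintro a u rfl
    show ((f (th u) : ↥Spor.M23) : Equiv.Perm GolayPt) = 1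
    rw [D.map]
    rfl
  diff := by
    rintro a u v rfl h
    rw [← D.triv, D.add, h, D.sq]
  shift := by
    rintro a u v rfl hv
    show th (u + v) = th u
    rw [D.add, (D.triv v).mpr hv, mul_one]
  triv := by
    rintro a u rfl hu
    exact (D.triv u).mpr hu
  one := D.zero
  comm := by
    rintro a b u v rfl rfl
    exact D.comm u v

end Data

/-! ### The application of the certificate -/

section Cert

variable {E : Type*} [Group E] [Finite E] {f : E →* ↥Spor.M23} {K : AddSubgroup W} {Rp : E → W → Prop}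

theorem cert_main (hf : Function.Surjective f) (hK : K = KK) (MD : ExtMod (sg f) K Rp)
    (hreal : ∀ u, ∃ ν, Rp ν u) (gen : ℕ → E) (hgen : ∀ t, t < 2 → sg f (gen t) = g (gcT t)) (h0 : gen 0 ^ 3 = 1)
    (h1 : gen 1 ^ 3 = 1) (rep : ℕ → W) (hrep : ∀ s, s < nP → Rp (evalW gen (relT (pST s))) (rep s))
    (hcf : evB B (rhoOf rep) cf = 0) :
    ∃ A : Subgroup E, Nat.card A = nV ∧ ∀ a ∈ A, f a = 1 → a = 1 := by
  subst hK
  have hDK : ∀ d ∈ DG, ∀ k ∈ KK, dotW (wordOf d) k = 0 := by
    intro d hd k hk
    exact dot_KK (DG_code d hd).1 (DG_code d hd).2 hk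
  have hfus : ∀ c ∈ fusL, (∃ y, sg f y = g c.Pg) ∧ ∀ k ∈ KK, dotW (wordOf c.d1) k = 0 := by
    intro c hc
    have hc' : c.Pg = Pg := by
      simp only [fusL, List.mem_singleton] at hc
      rw [hc]
    constructor
    · obtain ⟨y, hy⟩ := hf ⟨g c.Pg, by rw [hc']; exact g_mem_M23 Pg_aut Pg_23⟩
      exact ⟨y, by show ((f y : ↥Spor.M23) : Equiv.Perm GolayPt) = _; rw [hy]⟩
    · intro k hk
      exact dot_KK (fus_d1 c hc).1 (fus_d1 c hc).2 hk
  obtain ⟨A, hA1, hA2⟩ := main Cfsg.Agent.Lib.ExtCert.M23.C9.cert fcert MD hDK mem_KK_of_dot (by simp)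
    (fun i t _ _ => hreal _) hfus gen hgen h0 h1 rep hrep (by simpa using hcf)
  exact ⟨A, hA1, fun a ha h3 => hA2 a ha (by
    show ((f a : ↥Spor.M23) : Equiv.Perm GolayPt) = 1
    rw [h3]
    rfl)⟩

/-- Exact lifts exist. -/
theorem exists_gen (hf : Function.Surjective f) (h2 : ∀ a, f a = 1 → a * a = 1) :
    ∃ gen : ℕ → E, (∀ t, t < 2 → sg f (gen t) = g (gcT t)) ∧ gen 0 ^ 3 = 1 ∧ gen 1 ^ 3 = 1 := by
  have ho0 := gen_pow Cfsg.Agent.Lib.ExtCert.M23.C9.cert (j := 0) (by decide) (by decide : (0 : ℕ) < 2) rel0_eq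
  have ho1 := gen_pow Cfsg.Agent.Lib.ExtCert.M23.C9.cert (j := 1) (by decide) (by decide : (1 : ℕ) < 2) rel1_eq
  obtain ⟨y0, hy01, hy02⟩ := exists_lifts f hf h2 gc0_aut gc0_23 ho0 (by decide)
  obtain ⟨y1, hy11, hy12⟩ := exists_lifts f hf h2 gc1_aut gc1_23 ho1 (by decide)
  refine ⟨fun t => if t = 0 then y0 else y1, ?_, hy02, hy12⟩
  intro t ht
  have ht' : t = 0 ∨ t = 1 := by omega
  rcases ht' with rfl | rfl
  · exact hy01
  · exact hy11

end Cert

end Cfsg.Agent.Lib.ExtCert.M23.Cocode
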