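import Cfsg.Agent.Lib.ExtCert.M23.C9

/-!
# The forms of the certificate for the cocode module
-/

set_option autoImplicit false

namespace Cfsg.Agent.Lib.ExtCert.M23.F9

open Cfsg.Agent.Lib.ExtCert.M23.D9 Cfsg.Agent.Lib.ExtCert.M23.R9 Cfsg.Agent.Lib.ExtCert.Solve Cfsg.Agent.Lib.ExtCert.Final
open Cfsg.Agent.Lib.ExtCert.Main Cfsg.Agent.Lib.SchurCert.Elim
open Cfsg.Agent.Lib.Golay.Core Cfsg.Agent.Lib.Golay.Perm

/-- The functionals of the goals: a basis of the words of the code vanishing at the last point. -/
def DG : List Nat := [262637, 525274, 1050548, 2101096, 4196943, 36294, 69395, 133817, 5279, 10558, 18147]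

/-- The pivots of `DG`. -/
def pivDG : List Nat := [18, 19, 20, 21, 22, 15, 16, 17, 12, 13, 14]

/-- The complementary points. -/
def JL : List Nat := [0, 1, 2, 3, 4, 5, 6, 7, 8, 9, 10, 11, 23]

/-- A basis of the code plus the last point, dual to `JL`. -/
def KL : List Nat := [4673537, 4845570, 5550084, 7221256, 1781776, 3563552, 7127104, 2019456, 4038912, 8077824, 3265536, 6531072, 8388608]

/-- Forms from closed walks. -/
def conL : List (Nat × Nat × Nat) := [(262637, 3, 2), (525274, 3, 2), (1050548, 3, 2), (2101096, 3, 2), (4196943, 3, 2), (36294, 3, 2), (69395, 3, 2), (10558, 3, 2), (262637, 10, 3), (525274, 10, 3), (2101096, 10, 3), (10558, 10, 3), (262637, 23, 3), (525274, 23, 3), (1050548, 23, 3), (262637, 113, 3), (525274, 113, 3), (1050548, 113, 3), (262637, 188, 3), (525274, 188, 3), (1050548, 188, 3), (2101096, 188, 3), (4196943, 188, 3), (36294, 188, 3), (69395, 188, 3), (133817, 188, 3), (5279, 188, 3), (10558, 188, 3), (18147, 188, 3)]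

/-- The element of the big group of the fusion relation. -/
def Pg : Nat := 969078403749051027895045076771248832

/-- The fusion relations. -/
def fusL : List Fus := [⟨5246459, 5543247, Pg, [0, 1, 1, 0, 0, 1, 0, 1, 1, 0, 0, 1, 0], [0, 1, 0, 1, 0, 0, 1, 0, 1, 1, 0, 1, 1, 0, 1]⟩]

/-- Pivots. -/
def pivL : List Nat := [5107926402368274432, 1485906402055553024]

/-- The class form. -/
def cf : Nat := 5943625608222474733

/-- All forms. -/
def formT : List Nat := [334433, 416040, 593097, 2110153, 401355, 5112513, 402026, 1445088, 75677728276161, 57794827872040, 75251588030243, 127891275524873, 105742516125377, 137853051823912, 15513707117378, 83794165940536, 25953045960432, 38075576561978, 73925843662980251648, 147851612599418355712, 295703055860674592768, 591406026971997536256, 1181334488450838036480, 10215860029089644544, 19533037721930956800, 37666202976079839232, 1485978863639986176, 2971870549795405824, 5108036128716357632, 136871587361664, 5107926402368274432, 1485906402055553024, 5943625608222474733]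

/-- The selections. -/
def selL : List Nat := [7516192768, 1342430637, 6711139640, 88, 7516192821, 7516378494, 1342430633, 1342430648, 6711139752, 6711139832, 18, 537000336, 2751582236, 1879152584, 4093657963, 1879149317, 2214714657, 119522, 2751568850, 536998428, 2214713529, 4093664383, 2214878552, 2752092171, 3557945334, 1344373664, 3560968974, 545279359, 2768268968, 33684783, 2147483648, 671215634, 1073741824]

/-- The selections. -/
def selT (i : Nat) : Nat := selL.getD i 0

/-- The changes of lifts. -/
def nm (t k : Nat) : Nat := ([18, 0, 16, 0].getD (Nat.add (Nat.mul 2 t) k) 0)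

/-- The changes of the parameters. -/
def DT (t : Nat) : Nat := ([1642139159094098881907, 306244792109501553].getD t 0)

/-- The number of changes of lifts. -/
def nT : Nat := 2

theorem rel0_eq : relT 0 = List.replicate 3 0 := by decide +kernel

theorem rel1_eq : relT 1 = List.replicate 3 1 := by decide +kernel

/-- The check of the forms. -/
theorem fcert : FCert nV nR nP B 3 3 nT nxT datT FcT pST relT DG [] conL [] fusL pivL [cf] formT selT nm DT where
  rel0 := rel0_eq
  rel1 := rel1_eq
  pS_lt := by decide +kernel
  inj := C9.inj
  con_ok := by decide +kernel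
  par_ok := by decide +kernel
  fus_ok := by decide +kernel
  forms := by decide +kernel
  dg_lt := by decide +kernel
  goals := by
    have h : ∀ s, s < nP → ∀ i, i < DG.length →
        xorSel formT (selT (s * DG.length + i)) = DG.getD i 0 <<< (24 * s) := by decide +kernel
    exact fun s i hs hi => h s hs i hi
  Dbits := by
    have h : ∀ t, t < nT → ∀ s, s < nP → ∀ q, q < 24 →
        Nat.testBit (DT t) (24 * s + q) = gB nxT FcT (nm t) q (relT (pST s)) 0 := by decide +kernel
    exact fun t s q ht hs hq => h t ht s hs q hq
  piv_len := by decide +kernel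
  mat := by
    have h : ∀ t, t < nT → ∀ t', t' < nT → parB B (DT t) (pivL.getD t' 0) = decide (t = t') := by decide +kernel
    exact fun t t' ht ht' => h t ht t' ht'
  cfinv := by
    have h : ∀ t, t < nT → ∀ f ∈ [cf], parB B (DT t) f = false := by decide +kernel
    exact h

end Cfsg.Agent.Lib.ExtCert.M23.F9
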