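import Cfsg.Agent.Lib.ExtCert.M23.Split
import Cfsg.Agent.Lib.ExtCert.M23.Cocode

/-!
# The extension of `M23` induced from a double cover of `M22`

The points of `M23` are `some x`, with `x` modulo 23.  With a transversal `t x` of `M22` in `M23`, the set
`ZMod 23 × Γ` maps to `M23` by `(x, γ) ↦ t x * τ γ`, and the group `E0` consists of the permutations commuting with the
right action of `Γ` and covering a left multiplication in `M23`.
-/

set_option autoImplicit false

namespace Cfsg.Agent.Lib.ExtCert.M23.Ind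

open Cfsg Subgroup
open Cfsg.Agent.Lib.ExtCert.Basic Cfsg.Agent.Lib.ExtCert.M23.Split Cfsg.Agent.Lib.ExtCert.M23.Cocode
open Cfsg.Agent.Lib.Golay.Core Cfsg.Agent.Lib.Golay.Perm Cfsg.Agent.Lib.Golay.OutGroups
open scoped commutatorElement

/-- The group `M23`. -/
abbrev GG := ↥Spor.M23

/-! ### The action on the points other than the extra point -/

/-- The image of a point. -/
noncomputable def act (σ : GG) (x : ZMod 23) : ZMod 23 := ((σ : Equiv.Perm GolayPt) (some x)).getD 0

theorem act_spec (σ : GG) (x : ZMod 23) : (σ : Equiv.Perm GolayPt) (some x) = some (act σ x) := by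
  have h : (σ : Equiv.Perm GolayPt) (some x) ≠ none := by
    intro h
    have h2 := fix_none σ
    rw [← h2] at h
    exact absurd ((σ : Equiv.Perm GolayPt).injective h) (by simp)
  unfold act
  cases h2 : (σ : Equiv.Perm GolayPt) (some x) with
  | none => exact absurd h2 h
  | some y => rfl

/-- The code of the translation. -/
def cycP : ℕ := 956302485175575353788796878166559809

theorem cyc_aut : checkAut cycP = true := by decide +kernel

theorem cyc_23 : img cycP 23 = 23 := by decide +kernel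

/-- The translation. -/
noncomputable def cyc : GG := ⟨g cycP, g_mem_M23 cyc_aut cyc_23⟩

theorem cyc_some (x : ZMod 23) : (cyc : Equiv.Perm GolayPt) (some x) = some (x + 1) := by
  have h : ∀ x : ZMod 23, pt (img cycP (idx (some x))) = some (x + 1) := by decide +kernel
  rw [← h x]
  exact g_apply (checkAut_valid cyc_aut) _

/-- The transversal. -/
noncomputable def tr (x : ZMod 23) : GG := cyc ^ x.val

theorem pow_some (k : ℕ) : ((cyc ^ k : GG) : Equiv.Perm GolayPt) (some 0) = some (k : ZMod 23) := by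
  induction k with
  | zero => simp
  | succ k ih =>
    rw [pow_succ']
    show (cyc : Equiv.Perm GolayPt) (((cyc ^ k : GG) : Equiv.Perm GolayPt) (some 0)) = _
    rw [ih, cyc_some]
    simp

theorem tr_some (x : ZMod 23) : ((tr x : GG) : Equiv.Perm GolayPt) (some 0) = some x := by
  rw [tr, pow_some, ZMod.natCast_zmod_val]

theorem tr_zero : tr 0 = 1 := by
  have : (0 : ZMod 23).val = 0 := rfl
  rw [tr, this, pow_zero]

/-- The inclusion of `M22`. -/
def inc : ↥Spor.M22 →* GG := Subgroup.inclusion (fun _ hx => hx.1)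

theorem inc_fix (h : ↥Spor.M22) : ((inc h : GG) : Equiv.Perm GolayPt) (some 0) = some 0 :=
  MulAction.mem_stabilizer_iff.mp h.2.2

theorem inc_inj {h : ↥Spor.M22} (h1 : inc h = 1) : h = 1 := by
  apply Subtype.ext
  exact congrArg (fun m : GG => m.1) h1

theorem exists_inc {m : GG} (h : (m : Equiv.Perm GolayPt) (some 0) = some 0) : ∃ y, inc y = m :=
  ⟨⟨m.1, m.2, MulAction.mem_stabilizer_iff.mpr h⟩, rfl⟩

/-! ### Double covers -/

/-- A double cover of `M22` given by its map and the nontrivial element of the kernel. -/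
structure DC {Γ : Type} [Group Γ] (τ : Γ →* ↥Spor.M22) (z : Γ) : Prop where
  surj : Function.Surjective τ
  ker : ∀ γ, τ γ = 1 ↔ γ = 1 ∨ γ = z
  ne : z ≠ 1
  central : ∀ γ, z * γ = γ * z
  sq : z * z = 1
  comm : z ∈ commutator Γ

section

variable {Γ : Type} [Group Γ] [Finite Γ] {τ : Γ →* ↥Spor.M22} {z : Γ}

/-- The points. -/
abbrev XX (Γ : Type) := ZMod 23 × Γ

/-- The right action. -/
def rm (δ : Γ) (p : XX Γ) : XX Γ := (p.1, p.2 * δ)

theorem rm_rm (δ δ' : Γ) (p : XX Γ) : rm δ (rm δ' p) = rm (δ' * δ) p := by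
  simp [rm, mul_assoc]

/-- The map to `M23`. -/
noncomputable def pi (τ : Γ →* ↥Spor.M22) (p : XX Γ) : GG := tr p.1 * inc (τ p.2)

theorem pi_rm (δ : Γ) (p : XX Γ) : pi τ (rm δ p) = pi τ p * inc (τ δ) := by
  simp [pi, rm, mul_assoc]

theorem pi_some (p : XX Γ) : ((pi τ p : GG) : Equiv.Perm GolayPt) (some 0) = some p.1 := by
  show ((tr p.1 : GG) : Equiv.Perm GolayPt) (((inc (τ p.2) : GG) : Equiv.Perm GolayPt) (some 0)) = _
  rw [inc_fix, tr_some]

theorem pi_base : pi τ ((0 : ZMod 23), (1 : Γ)) = 1 := by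
  simp [pi, tr_zero]

theorem pi_surj (D : DC τ z) (m : GG) : ∃ p, pi τ p = m := by
  obtain ⟨x, hx⟩ : ∃ x, (m : Equiv.Perm GolayPt) (some 0) = some x := ⟨_, act_spec m 0⟩
  have h1 : (((tr x)⁻¹ * m : GG) : Equiv.Perm GolayPt) (some 0) = some 0 := by
    show ((tr x : GG) : Equiv.Perm GolayPt)⁻¹ ((m : Equiv.Perm GolayPt) (some 0)) = some 0
    rw [hx, Equiv.Perm.inv_eq_iff_eq, tr_some]
  obtain ⟨y, hy⟩ := exists_inc h1
  obtain ⟨γ, hγ⟩ := D.surj y
  refine ⟨(x, γ), ?_⟩
  show tr x * inc (τ γ) = m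
  rw [hγ, hy]
  group

theorem pi_eq {p q : XX Γ} (h : pi τ p = pi τ q) : p.1 = q.1 ∧ τ p.2 = τ q.2 := by
  have h1 : p.1 = q.1 := by
    have h2 := pi_some (τ := τ) p
    rw [h, pi_some] at h2
    exact (Option.some.inj h2).symm
  refine ⟨h1, ?_⟩
  have h3 : tr p.1 * inc (τ p.2) = tr q.1 * inc (τ q.2) := h
  rw [h1, mul_right_inj] at h3
  have h4 : inc ((τ p.2)⁻¹ * τ q.2) = 1 := by
    rw [map_mul, map_inv, ← h3, inv_mul_cancel]
  have h5 := inc_inj h4
  exact (inv_mul_eq_one.mp h5)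

/-- The second component of a point over the same element. -/
theorem eq_or_of_tau (D : DC τ z) {a b : Γ} (h : τ a = τ b) : a = b ∨ a = z * b := by
  have h1 : τ (a * b⁻¹) = 1 := by rw [map_mul, map_inv, h, mul_inv_cancel]
  rcases (D.ker _).mp h1 with h2 | h2
  · left
    exact mul_inv_eq_one.mp h2
  · right
    exact mul_inv_eq_iff_eq_mul.mp h2

/-! ### The group -/

/-- The group of permutations commuting with the right action and covering a left multiplication. -/
noncomputable def E0 (τ : Γ →* ↥Spor.M22) : Subgroup (Equiv.Perm (XX Γ)) where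
  carrier := {f | (∃ m : GG, ∀ p, pi τ (f p) = m * pi τ p) ∧ ∀ p δ, f (rm δ p) = rm δ (f p)}
  mul_mem' := by
    rintro f f' ⟨⟨m, hm⟩, hf⟩ ⟨⟨m', hm'⟩, hf'⟩
    refine ⟨⟨m * m', fun p => ?_⟩, fun p δ => ?_⟩
    · show pi τ (f (f' p)) = _
      rw [hm, hm', mul_assoc]
    · show f (f' (rm δ p)) = rm δ (f (f' p))
      rw [hf', hf]
  one_mem' := ⟨⟨1, fun p => by simp⟩, fun _ _ => rfl⟩
  inv_mem' := by
    rintro f ⟨⟨m, hm⟩, hf⟩
    refine ⟨⟨m⁻¹, fun p => ?_⟩, fun p δ => ?_⟩
    · have hi : ∀ p, f (f⁻¹ p) = p := fun p => by simp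
      have h := hm (f⁻¹ p)
      rw [hi] at h
      rw [h]
      group
    · have hi : ∀ p, f (f⁻¹ p) = p := fun p => by simp
      apply f.injective
      rw [hf, hi, hi]

theorem mem_E0 {f : Equiv.Perm (XX Γ)} :
    f ∈ E0 τ ↔ (∃ m : GG, ∀ p, pi τ (f p) = m * pi τ p) ∧ ∀ p δ, f (rm δ p) = rm δ (f p) := Iff.rfl

/-- The element of `M23` covered by a member of the group. -/
noncomputable def rhoFun (τ : Γ →* ↥Spor.M22) (f : E0 τ) : GG := pi τ (f.1 ((0 : ZMod 23), (1 : Γ)))

theorem rho_spec (f : E0 τ) (p : XX Γ) : pi τ (f.1 p) = rhoFun τ f * pi τ p := by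
  obtain ⟨⟨m, hm⟩, -⟩ := f.2
  have h1 : rhoFun τ f = m := by
    unfold rhoFun
    rw [hm, pi_base, mul_one]
  rw [h1, hm]

/-- The map to `M23`. -/
noncomputable def rho (τ : Γ →* ↥Spor.M22) : E0 τ →* GG where
  toFun := rhoFun τ
  map_one' := pi_base
  map_mul' := fun f f' => by
    show pi τ (f.1 (f'.1 _)) = _
    rw [rho_spec]
    rfl

theorem rho_spec' (f : E0 τ) (p : XX Γ) : pi τ (f.1 p) = rho τ f * pi τ p := rho_spec f p

theorem rm_of_mem (f : E0 τ) (p : XX Γ) (δ : Γ) : f.1 (rm δ p) = rm δ (f.1 p) := f.2.2 p δ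

/-- Every element of `M23` is covered. -/
theorem rho_surj (D : DC τ z) : Function.Surjective (rho τ) := by
  intro m
  -- images of the base points
  have hq : ∀ x : ZMod 23, ∃ q : XX Γ, pi τ q = m * pi τ (x, (1 : Γ)) := fun x => pi_surj D _
  choose q hq using hq
  let F : XX Γ → XX Γ := fun p => rm p.2 (q p.1)
  have hF : ∀ p, pi τ (F p) = m * pi τ p := by
    intro p
    show pi τ (rm p.2 (q p.1)) = _
    rw [pi_rm, hq]
    simp [pi, mul_assoc]
  have hinj : Function.Injective F := by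
    intro p p' h
    have h1 : pi τ (F p) = pi τ (F p') := by rw [h]
    rw [hF, hF, mul_right_inj] at h1
    have h2 := (pi_eq h1).1
    have h3 : (q p.1).2 * p.2 = (q p'.1).2 * p'.2 := congrArg Prod.snd h
    rw [h2, mul_right_inj] at h3
    exact Prod.ext h2 h3
  have hbij : Function.Bijective F := ⟨hinj, Finite.injective_iff_surjective.mp hinj⟩
  have hmem : Equiv.ofBijective F hbij ∈ E0 τ := by
    refine ⟨⟨m, hF⟩, fun p δ => ?_⟩
    show rm (p.2 * δ) (q p.1) = rm δ (rm p.2 (q p.1))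
    rw [rm_rm]
  refine ⟨⟨_, hmem⟩, ?_⟩
  show pi τ (F _) = m
  rw [hF, pi_base, mul_one]

/-! ### The kernel -/

/-- The central element to a power. -/
def zp (z : Γ) (a : ZMod 2) : Γ := if a = 0 then 1 else z

theorem zp_zero : zp z 0 = 1 := rfl

theorem zp_one : zp z 1 = z := by
  simp [zp]

theorem zp_add (D : DC τ z) (a b : ZMod 2) : zp z (a + b) = zp z a * zp z b := by
  have e : ∀ a : ZMod 2, a = 0 ∨ a = 1 := by decide
  rcases e a with rfl | rfl <;> rcases e b with rfl | rfl
  · simp [zp]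
  · simp [zp]
  · simp [zp]
  · rw [zp_one, D.sq]
    exact if_pos (by decide)

theorem zp_central (D : DC τ z) (a : ZMod 2) (γ : Γ) : zp z a * γ = γ * zp z a := by
  unfold zp
  split_ifs
  · simp
  · exact D.central γ

theorem tau_zp (D : DC τ z) (a : ZMod 2) : τ (zp z a) = 1 := by
  unfold zp
  split_ifs
  · exact map_one τ
  · exact (D.ker z).mpr (Or.inr rfl)

theorem zp_eq_one (D : DC τ z) {a : ZMod 2} (h : zp z a = 1) : a = 0 := by
  have e : ∀ a : ZMod 2, a = 0 ∨ a = 1 := by decide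
  rcases e a with rfl | rfl
  · rfl
  · rw [zp_one] at h
    exact absurd h D.ne

/-- The permutation of a word. -/
def mFun (z : Γ) (w : W) (p : XX Γ) : XX Γ := (p.1, zp z (w (some p.1)) * p.2)

theorem mFun_inv (D : DC τ z) (w : W) : Function.Involutive (mFun z w) := by
  intro p
  simp only [mFun]
  rw [← mul_assoc, ← zp_add D, CharTwo.add_self_eq_zero, zp_zero, one_mul]

/-- The element of a word. -/
noncomputable def mE (D : DC τ z) (w : W) : E0 τ :=
  ⟨(mFun_inv D w).toPerm, by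
    refine ⟨⟨1, fun p => ?_⟩, fun p δ => ?_⟩
    · show pi τ (mFun z w p) = _
      simp [mFun, pi, map_mul, tau_zp D]
    · show mFun z w (rm δ p) = rm δ (mFun z w p)
      simp [mFun, rm, mul_assoc]⟩

theorem mE_apply (D : DC τ z) (w : W) (p : XX Γ) : (mE D w).1 p = (p.1, zp z (w (some p.1)) * p.2) := rfl

theorem mE_add (D : DC τ z) (u v : W) : mE D (u + v) = mE D u * mE D v := by
  apply Subtype.ext
  ext1 p
  show (mE D (u + v)).1 p = (mE D u).1 ((mE D v).1 p)
  rw [mE_apply, mE_apply, mE_apply]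
  simp only [Pi.add_apply]
  rw [zp_add D, mul_assoc]

theorem rho_mE (D : DC τ z) (w : W) : rho τ (mE D w) = 1 := by
  show pi τ ((mE D w).1 _) = 1
  rw [mE_apply]
  simp [zp, pi, tr_zero]
  split_ifs
  · simp
  · rw [show τ z = 1 from (D.ker z).mpr (Or.inr rfl)]
    simp

open scoped _root_.Classical in
/-- The word of an element of the kernel. -/
noncomputable def wd (f : E0 τ) : W := fun p =>
  match p with
  | none => 0
  | some x => if (f.1 (x, (1 : Γ))).2 = 1 then 0 else 1

theorem wd_none (f : E0 τ) : wd f none = 0 := rfl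

open scoped _root_.Classical in
theorem wd_some (f : E0 τ) (x : ZMod 23) : wd f (some x) = if (f.1 (x, (1 : Γ))).2 = 1 then 0 else 1 := rfl

/-- The zero at the extra point. -/
def wz (w : W) : W := fun p => if p = none then 0 else w p

theorem wz_none (w : W) : wz w none = 0 := rfl

theorem wz_some (w : W) (x : ZMod 23) : wz w (some x) = w (some x) := rfl

theorem wz_add (u v : W) : wz (u + v) = wz u + wz v := by
  funext p
  cases p with
  | none => simp [wz]
  | some x => rfl

open scoped _root_.Classical in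
theorem wd_mE (D : DC τ z) (w : W) : wd (mE D w) = wz w := by
  funext p
  cases p with
  | none => rfl
  | some x =>
    rw [wd_some, wz_some, mE_apply]
    have e : ∀ a : ZMod 2, a = 0 ∨ a = 1 := by decide
    simp only [mul_one]
    rcases e (w (some x)) with h | h
    · rw [h, zp_zero]
      simp
    · rw [h, zp_one, if_neg D.ne]

open scoped _root_.Classical in
theorem eq_mE (D : DC τ z) (f : E0 τ) (hf : rho τ f = 1) : f = mE D (wd f) := by
  apply Subtype.ext
  ext1 p
  obtain ⟨x, γ⟩ := p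
  have e1 : ((x, γ) : XX Γ) = rm γ (x, (1 : Γ)) := by simp [rm]
  rw [e1, rm_of_mem, rm_of_mem]
  have h1 := rho_spec' f (x, (1 : Γ))
  rw [hf, one_mul] at h1
  obtain ⟨h2, h3⟩ := pi_eq h1
  simp only at h2 h3
  rw [mE_apply, wd_some]
  simp only [mul_one]
  rw [map_one] at h3
  have h4 : (f.1 (x, (1 : Γ))).2 = 1 ∨ (f.1 (x, (1 : Γ))).2 = z := (D.ker _).mp h3
  have hz : zp z (if (f.1 (x, (1 : Γ))).2 = 1 then (0 : ZMod 2) else 1) = (f.1 (x, (1 : Γ))).2 := by
    rcases h4 with h4 | h4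
    · rw [if_pos h4, zp_zero, h4]
    · rw [if_neg (by rw [h4]; exact D.ne), zp_one, h4]
  rw [hz]
  exact congrArg (rm γ) (Prod.ext h2 rfl)

theorem mE_eq_iff (D : DC τ z) (u v : W) : mE D u = mE D v ↔ ∀ x, u (some x) = v (some x) := by
  constructor
  · intro h x
    have h1 := congrArg wd h
    rw [wd_mE, wd_mE] at h1
    exact congrFun h1 (some x)
  · intro h
    apply Subtype.ext
    ext1 p
    rw [mE_apply, mE_apply, h]

/-- **Conjugation.** -/
theorem mE_conj (D : DC τ z) (f : E0 τ) (w : W) :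
    f * mE D w * f⁻¹ = mE D (w ∘ ⇑((rho τ f : GG) : Equiv.Perm GolayPt)⁻¹) := by
  apply Subtype.ext
  ext1 p
  set q := f.1⁻¹ p with hq
  have hfq : f.1 q = p := by simp [hq]
  show f.1 ((mE D w).1 (f.1⁻¹ p)) = (mE D _).1 p
  rw [← hq, mE_apply, mE_apply]
  have e1 : ((q.1, zp z (w (some q.1)) * q.2) : XX Γ) = rm (zp z (w (some q.1))) q := by
    simp [rm, zp_central D]
  rw [e1, rm_of_mem, hfq]
  -- the point
  have h1 := rho_spec' f q
  rw [hfq] at h1
  have h2 : some p.1 = ((rho τ f : GG) : Equiv.Perm GolayPt) (some q.1) := by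
    rw [← pi_some (τ := τ) p, h1, ← pi_some (τ := τ) q]
    rfl
  have h3 : ((rho τ f : GG) : Equiv.Perm GolayPt)⁻¹ (some p.1) = some q.1 := by
    rw [Equiv.Perm.inv_eq_iff_eq]
    exact h2
  simp only [Function.comp_apply]
  rw [h3]
  simp [rm, zp_central D]

end

end Cfsg.Agent.Lib.ExtCert.M23.Ind
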