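import Cfsg.Agent.Lib.ExtCert.M23.Ind

/-!
# The nonsplit extension of `M23` by the cocode module
-/

set_option autoImplicit false

namespace Cfsg.Agent.Lib.ExtCert.M23.Ind

open Cfsg Subgroup
open Cfsg.Agent.Lib.ExtCert.Basic Cfsg.Agent.Lib.ExtCert.M23.Split Cfsg.Agent.Lib.ExtCert.M23.Cocode
open Cfsg.Agent.Lib.Golay.Core Cfsg.Agent.Lib.Golay.Perm Cfsg.Agent.Lib.Golay.OutGroups
open scoped commutatorElement

theorem eNone_comp (σ : GG) : eNone ∘ ⇑((σ : Equiv.Perm GolayPt)⁻¹) = eNone := by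
  funext p
  have h1 : (σ : Equiv.Perm GolayPt)⁻¹ none = none := by
    rw [Equiv.Perm.inv_eq_iff_eq]
    exact (fix_none σ).symm
  by_cases hp : p = none
  · subst hp
    simp only [Function.comp_apply, h1]
  · have h2 : (σ : Equiv.Perm GolayPt)⁻¹ p ≠ none := by
      intro h
      apply hp
      have := congrArg (σ : Equiv.Perm GolayPt) h
      rw [fix_none σ] at this
      simpa using this
    simp only [Function.comp_apply, eNone, Pi.single_apply, if_neg h2, if_neg hp]

theorem KK_comp (σ : GG) {k : W} (hk : k ∈ KK) : k ∘ ⇑((σ : Equiv.Perm GolayPt)⁻¹) ∈ KK := by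
  rcases hk with h | h
  · exact Or.inl (comp_mem σ h)
  · right
    have h2 := comp_mem σ h
    have e : (k + eNone) ∘ ⇑((σ : Equiv.Perm GolayPt)⁻¹) = k ∘ ⇑((σ : Equiv.Perm GolayPt)⁻¹) + eNone := by
      funext p
      have := congrFun (eNone_comp σ) p
      simp only [Function.comp_apply, Pi.add_apply] at this ⊢
      rw [this]
    rwa [e] at h2

theorem eNone_KK : eNone ∈ KK := by
  right
  rw [W_add_self]
  exact golayCode.zero_mem

section

variable {Γ : Type} [Group Γ] [Finite Γ] {τ : Γ →* ↥Spor.M22} {z : Γ}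

theorem mE_zero (D : DC τ z) : mE D 0 = 1 := by
  apply Subtype.ext
  ext1 p
  rw [mE_apply]
  simp [zp]

theorem mE_sq (D : DC τ z) (w : W) : mE D w * mE D w = 1 := by
  rw [← mE_add, W_add_self, mE_zero]

/-- The words of the code. -/
noncomputable def CC (D : DC τ z) : Subgroup (E0 τ) where
  carrier := {f | ∃ k ∈ KK, mE D k = f}
  mul_mem' := by
    rintro _ _ ⟨k, hk, rfl⟩ ⟨k', hk', rfl⟩
    exact ⟨k + k', KK.add_mem hk hk', mE_add D k k'⟩
  one_mem' := ⟨0, KK.zero_mem, mE_zero D⟩
  inv_mem' := by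
    rintro _ ⟨k, hk, rfl⟩
    exact ⟨k, hk, (inv_eq_of_mul_eq_one_left (mE_sq D k)).symm⟩

instance CC_normal (D : DC τ z) : (CC D).Normal where
  conj_mem := by
    rintro _ ⟨k, hk, rfl⟩ g
    exact ⟨_, KK_comp (rho τ g) hk, (mE_conj D g k).symm⟩

theorem CC_le_ker (D : DC τ z) : CC D ≤ (rho τ).ker := by
  rintro _ ⟨k, _, rfl⟩
  exact rho_mE D k

/-- The extension. -/
abbrev EE (D : DC τ z) : Type := ↥(E0 τ) ⧸ CC D

/-- The map to `M23`. -/
noncomputable def rhoB (D : DC τ z) : EE D →* GG := QuotientGroup.lift (CC D) (rho τ) (fun _ h => CC_le_ker D h)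

theorem rhoB_mk (D : DC τ z) (f : E0 τ) : rhoB D (f : EE D) = rho τ f := rfl

theorem rhoB_surj (D : DC τ z) : Function.Surjective (rhoB D) := by
  intro m
  obtain ⟨f, hf⟩ := rho_surj D m
  exact ⟨(f : EE D), hf⟩

/-- The identification of the quotient. -/
noncomputable def phi (D : DC τ z) : EE D ⧸ (rhoB D).ker ≃* GG :=
  QuotientGroup.quotientKerEquivOfSurjective (rhoB D) (rhoB_surj D)

theorem phi_mk (D : DC τ z) (e : EE D) : phi D (e : EE D ⧸ (rhoB D).ker) = rhoB D e := rfl

/-- The map from the words. -/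
noncomputable def theta (D : DC τ z) : W →+ Additive ↥(rhoB D).ker where
  toFun w := Additive.ofMul ⟨(mE D w : EE D), rho_mE D w⟩
  map_zero' := by
    apply Additive.toMul.injective
    apply Subtype.ext
    show ((mE D 0 : E0 τ) : EE D) = 1
    rw [mE_zero]
    rfl
  map_add' u v := by
    apply Additive.toMul.injective
    apply Subtype.ext
    show ((mE D (u + v) : E0 τ) : EE D) = (mE D u : EE D) * (mE D v : EE D)
    rw [mE_add]
    rfl

theorem theta_val (D : DC τ z) (w : W) : (((theta D w).toMul : ↥(rhoB D).ker) : EE D) = (mE D w : EE D) := rfl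

theorem theta_surj (D : DC τ z) : Function.Surjective (theta D) := by
  intro n
  obtain ⟨e, he⟩ : ∃ e, e = n.toMul := ⟨_, rfl⟩
  obtain ⟨f, hf⟩ := QuotientGroup.mk'_surjective (CC D) e.1
  have h1 : rho τ f = 1 := by
    have h2 : rhoB D e.1 = 1 := e.2
    rw [← hf] at h2
    exact h2
  refine ⟨wd f, ?_⟩
  apply Additive.toMul.injective
  apply Subtype.ext
  show ((mE D (wd f) : E0 τ) : EE D) = _
  rw [← eq_mE D f h1, ← he]
  exact hf

theorem mem_KK_of_agree {k w : W} (hk : k ∈ KK) (h : ∀ x, k (some x) = w (some x)) : w ∈ KK := by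
  by_cases hn : k none = w none
  · have : k = w := by
      funext p
      cases p with
      | none => exact hn
      | some x => exact h x
    rwa [← this]
  · have e : ∀ a b : ZMod 2, a ≠ b → a + b = 1 := by decide
    have h1 := e _ _ hn
    have : w = k + eNone := by
      funext p
      cases p with
      | none =>
        have e2 : ∀ a b : ZMod 2, a + b = 1 → b = a + 1 := by decide
        exact e2 _ _ h1
      | some x =>
        simp [eNone, Pi.single_apply, h x]
    rw [this]
    exact KK.add_mem hk eNone_KK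

theorem theta_ker (D : DC τ z) (w : W) :
    theta D w = 0 ↔ (w ∈ golayCode ∨ w + Pi.single none 1 ∈ golayCode) := by
  show _ ↔ w ∈ KK
  constructor
  · intro h
    have h1 : ((mE D w : E0 τ) : EE D) = 1 := congrArg (fun n => ((n.toMul : ↥(rhoB D).ker) : EE D)) h
    obtain ⟨k, hk, hkw⟩ := (QuotientGroup.eq_one_iff _).mp h1
    exact mem_KK_of_agree hk ((mE_eq_iff D k w).mp hkw)
  · intro h
    apply Additive.toMul.injective
    apply Subtype.ext
    show ((mE D w : E0 τ) : EE D) = 1
    exact (QuotientGroup.eq_one_iff _).mpr ⟨w, h, rfl⟩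

theorem theta_conj (D : DC τ z) (e : EE D) (w : W) :
    (((theta D (w ∘ ⇑(((phi D (QuotientGroup.mk e) : GG) : Equiv.Perm GolayPt)⁻¹))).toMul : ↥(rhoB D).ker) : EE D) =
      e * (((theta D w).toMul : ↥(rhoB D).ker) : EE D) * e⁻¹ := by
  induction e using QuotientGroup.induction_on with
  | H f =>
  rw [theta_val, theta_val, phi_mk, rhoB_mk, ← mE_conj]
  rfl

/-! ### The splitting is impossible -/

theorem wz_wd (f : E0 τ) : wz (wd f) = wd f := by
  funext p
  cases p with
  | none => rfl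
  | some x => rfl

theorem wd_mul (D : DC τ z) {f f' : E0 τ} (hf : rho τ f = 1) (hf' : rho τ f' = 1) : wd (f * f') = wd f + wd f' := by
  have h1 : f * f' = mE D (wd f + wd f') := by
    rw [mE_add, ← eq_mE D f hf, ← eq_mE D f' hf']
  rw [h1, wd_mE, wz_add, wz_wd, wz_wd]

theorem wd_conj (D : DC τ z) (g : E0 τ) {f : E0 τ} (hf : rho τ f = 1) :
    wd (g * f * g⁻¹) = wd f ∘ ⇑((rho τ g : GG) : Equiv.Perm GolayPt)⁻¹ := by
  have h1 : g * f * g⁻¹ = mE D (wd f ∘ ⇑((rho τ g : GG) : Equiv.Perm GolayPt)⁻¹) := by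
    rw [← mE_conj, ← eq_mE D f hf]
  rw [h1, wd_mE]
  funext p
  cases p with
  | none =>
    have h2 : ((rho τ g : GG) : Equiv.Perm GolayPt)⁻¹ none = none := by
      rw [Equiv.Perm.inv_eq_iff_eq]
      exact (fix_none _).symm
    show (0 : ZMod 2) = wd f (((rho τ g : GG) : Equiv.Perm GolayPt)⁻¹ none)
    rw [h2, wd_none]
  | some x => rfl

theorem wz_of_none {w : W} (h : w none = 0) : wz w = w := by
  funext p
  cases p with
  | none => exact h.symm
  | some x => rfl

theorem wz_eNone_add (k : W) : wz (k + eNone) = wz k := by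
  funext p
  cases p with
  | none => rfl
  | some x => simp [wz_some, eNone, Pi.single_apply]

theorem one_mem_code : (1 : W) ∈ golayCode := Submodule.subset_span (Or.inr rfl)

theorem wz_cases {k : W} (hk : k ∈ golayCode) : wz k ∈ golayCode ∨ wz k + one23 ∈ golayCode := by
  have e : ∀ a : ZMod 2, a = 0 ∨ a = 1 := by decide
  rcases e (k none) with h | h
  · left
    rwa [wz_of_none h]
  · right
    have : wz k + one23 = k + 1 := by
      funext p
      cases p with
      | none =>
        show (0 : ZMod 2) + 0 = k none + 1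
        rw [h]
        decide
      | some x =>
        show k (some x) + (if (some x : GolayPt) = none then 0 else 1) = k (some x) + 1
        simp
    rw [this]
    exact golayCode.add_mem hk one_mem_code

theorem wz_KK {k : W} (hk : k ∈ KK) : wz k ∈ golayCode ∨ wz k + one23 ∈ golayCode := by
  rcases hk with h | h
  · exact wz_cases h
  · have := wz_cases h
    rwa [wz_eNone_add] at this

/-- No section of the group over `M23`. -/
theorem no_sec (D : DC τ z) (A : Subgroup (E0 τ)) (hA : IsSec (rho τ) A) : False := by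
  classical
  set p0 : XX Γ := ((0 : ZMod 23), (1 : Γ)) with hp0
  -- the image of the stabilizer of the point
  let S : Subgroup Γ :=
    { carrier := {γ | ∃ a ∈ A, a.1 p0 = ((0 : ZMod 23), γ)}
      mul_mem' := by
        rintro γ δ ⟨a, ha, h1⟩ ⟨b, hb, h2⟩
        refine ⟨a * b, A.mul_mem ha hb, ?_⟩
        show a.1 (b.1 p0) = _
        rw [h2]
        have e : ((0 : ZMod 23), δ) = rm δ p0 := by simp [rm, hp0]
        rw [e, rm_of_mem, h1]
        rfl
      one_mem' := ⟨1, A.one_mem, rfl⟩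
      inv_mem' := by
        rintro γ ⟨a, ha, h1⟩
        refine ⟨a⁻¹, A.inv_mem ha, ?_⟩
        have h2 : a.1 ((0 : ZMod 23), γ⁻¹) = p0 := by
          have e : ((0 : ZMod 23), γ⁻¹) = rm γ⁻¹ p0 := by simp [rm, hp0]
          rw [e, rm_of_mem, h1]
          simp [rm, hp0]
        show a.1⁻¹ p0 = _
        rw [← h2]
        simp }
  have hS : ∀ γ, γ ∈ S ↔ ∃ a ∈ A, a.1 p0 = ((0 : ZMod 23), γ) := fun γ => Iff.rfl
  -- the point of a member
  have hpt : ∀ a : E0 τ, a.1 p0 = ((0 : ZMod 23), (a.1 p0).2) ∨ (a.1 p0).1 ≠ 0 := by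
    intro a
    by_cases h : (a.1 p0).1 = 0
    · left
      exact Prod.ext h rfl
    · exact Or.inr h
  -- the elements over `M22`
  have hcover : ∀ γ, ∃ s ∈ S, τ s = τ γ := by
    intro γ
    obtain ⟨a, ha, ham⟩ := hA.2 (inc (τ γ))
    have h1 : pi τ (a.1 p0) = inc (τ γ) := by
      rw [rho_spec', ham, hp0, pi_base, mul_one]
    have h2 : (a.1 p0).1 = 0 := by
      have h3 := pi_some (τ := τ) (a.1 p0)
      rw [h1, inc_fix] at h3
      exact (Option.some.inj h3).symm
    refine ⟨(a.1 p0).2, ⟨a, ha, Prod.ext h2 rfl⟩, ?_⟩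
    have h4 : tr (a.1 p0).1 * inc (τ (a.1 p0).2) = inc (τ γ) := h1
    rw [h2, tr_zero, one_mul] at h4
    apply Subtype.ext
    exact congrArg (fun m : GG => m.1) h4
  have hzS : z ∉ S := by
    rintro ⟨a, ha, h1⟩
    have h2 : rho τ a = 1 := by
      have h3 := rho_spec' a p0
      rw [h1, hp0, pi_base, mul_one] at h3
      rw [← h3]
      show tr 0 * inc (τ z) = 1
      rw [tr_zero, one_mul, (D.ker z).mpr (Or.inr rfl), map_one]
    have h4 := hA.1 a ha h2
    rw [h4] at h1
    have h5 : (1 : Γ) = z := congrArg Prod.snd h1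
    exact D.ne h5.symm
  -- every element is a member of `S` times a central element
  have hdec : ∀ γ, ∃ s ∈ S, γ = s ∨ γ = z * s := by
    intro γ
    obtain ⟨s, hs, h1⟩ := hcover γ
    exact ⟨s, hs, eq_or_of_tau D h1.symm⟩
  have hcomm : commutator Γ ≤ S := by
    rw [_root_.commutator_def, Subgroup.commutator_le]
    intro a _ b _
    obtain ⟨s, hs, h1⟩ := hdec a
    obtain ⟨r, hr, h2⟩ := hdec b
    have hc1 : ∀ x y : Γ, ⁅z * x, y⁆ = ⁅x, y⁆ := by
      intro x y
      have h3 : z⁻¹ * y = y * z⁻¹ := by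
        have h4 : z⁻¹ = z := inv_eq_of_mul_eq_one_left D.sq
        rw [h4]
        exact D.central y
      rw [commutatorElement_def, commutatorElement_def, mul_inv_rev]
      calc z * x * y * (x⁻¹ * z⁻¹) * y⁻¹ = z * (x * y * x⁻¹) * (z⁻¹ * y⁻¹) := by group
        _ = z * (x * y * x⁻¹) * (y⁻¹ * z⁻¹) := by
          congr 1
          have h4 : z⁻¹ = z := inv_eq_of_mul_eq_one_left D.sq
          rw [h4]
          exact (D.central y⁻¹).symm ▸ rfl
        _ = z * (x * y * x⁻¹ * y⁻¹) * z⁻¹ := by group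
        _ = x * y * x⁻¹ * y⁻¹ := by
          rw [D.central, mul_inv_cancel_right]
    have hc2 : ∀ x y : Γ, ⁅x, z * y⁆ = ⁅x, y⁆ := by
      intro x y
      rw [← commutatorElement_inv, hc1, commutatorElement_inv]
    have e : ⁅a, b⁆ = ⁅s, r⁆ := by
      have e1 : ⁅a, b⁆ = ⁅s, b⁆ := by
        rcases h1 with h1 | h1 <;> rw [h1]
        exact hc1 s b
      rw [e1]
      rcases h2 with h2 | h2 <;> rw [h2]
      exact hc2 s r
    rw [e]
    have h5 : ⁅s, r⁆ = s * r * s⁻¹ * r⁻¹ := rfl
    rw [h5]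
    exact S.mul_mem (S.mul_mem (S.mul_mem hs hr) (S.inv_mem hs)) (S.inv_mem hr)
  exact hzS (hcomm D.comm)

end

end Cfsg.Agent.Lib.ExtCert.M23.Ind
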