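import Cfsg.Agent.Lib.ExtCert.M23.Ind2
import Cfsg.Agent.Lib.Schur.Cover.M22k4

/-!
# The nonsplit extension of `M23` by the cocode module: the conclusion
-/

set_option autoImplicit false

namespace Cfsg.Agent.Lib.ExtCert.M23.Ind

open Cfsg Subgroup
open Cfsg.Agent.Lib.ExtCert.Basic Cfsg.Agent.Lib.ExtCert.M23.Split Cfsg.Agent.Lib.ExtCert.M23.Cocode
open Cfsg.Agent.Lib.Golay.Core Cfsg.Agent.Lib.Golay.Perm Cfsg.Agent.Lib.Golay.OutGroups
open scoped commutatorElement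

section

variable {Γ : Type} [Group Γ] [Finite Γ] {τ : Γ →* ↥Spor.M22} {z : Γ}

theorem nonsplit (D : DC τ z) (H : Subgroup (EE D)) (h1 : H ⊓ (rhoB D).ker = ⊥) (h2 : H ⊔ (rhoB D).ker = ⊤) :
    False := by
  classical
  let B : Subgroup (E0 τ) := H.comap (QuotientGroup.mk' (CC D))
  let ρB : ↥B →* GG := (rho τ).comp B.subtype
  have hsurj : Function.Surjective ρB := by
    intro m
    obtain ⟨f, hf⟩ := rho_surj D m
    have hmem : ((f : EE D)) ∈ H ⊔ (rhoB D).ker := by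
      rw [h2]
      trivial
    obtain ⟨x, hx, y, hy, hxy⟩ := Subgroup.mem_sup_of_normal_right.mp hmem
    obtain ⟨x', hx'⟩ := QuotientGroup.mk'_surjective (CC D) x
    have hx'B : x' ∈ B := by
      show QuotientGroup.mk' (CC D) x' ∈ H
      rw [hx']
      exact hx
    refine ⟨⟨x', hx'B⟩, ?_⟩
    show rho τ x' = m
    have h3 : rhoB D x = m := by
      have h4 : rhoB D (x * y) = m := by
        rw [hxy]
        exact hf
      rw [map_mul, MonoidHom.mem_ker.mp hy, mul_one] at h4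
      exact h4
    rw [← hx'] at h3
    exact h3
  have hρ1 : ∀ a : ρB.ker, rho τ a.1.1 = 1 := fun a => a.2
  have hCC : ∀ a : ρB.ker, ∃ k ∈ KK, mE D k = a.1.1 := by
    intro a
    have h3 : ((a.1.1 : E0 τ) : EE D) ∈ H ⊓ (rhoB D).ker := ⟨a.1.2, hρ1 a⟩
    rw [h1, Subgroup.mem_bot] at h3
    exact (QuotientGroup.eq_one_iff _).mp h3
  obtain ⟨A, hA⟩ := split12 ρB hsurj (fun a => wd a.1.1)
    (fun a b => wd_mul D (hρ1 a) (hρ1 b))
    (by
      intro a b hab
      apply Subtype.ext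
      apply Subtype.ext
      rw [eq_mE D a.1.1 (hρ1 a), eq_mE D b.1.1 (hρ1 b)]
      exact congrArg (mE D) hab)
    (fun g a => wd_conj D g.1 (hρ1 a))
    (fun a => wd_none _)
    (by
      intro a
      obtain ⟨k, hk, hka⟩ := hCC a
      show wd a.1.1 ∈ golayCode ∨ wd a.1.1 + one23 ∈ golayCode
      rw [← hka, wd_mE]
      exact wz_KK hk)
    (by
      intro w hw hw0
      have hmC : mE D w ∈ CC D := ⟨w, Or.inl hw, rfl⟩
      have hmB : mE D w ∈ B := by
        show ((mE D w : E0 τ) : EE D) ∈ H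
        rw [(QuotientGroup.eq_one_iff _).mpr hmC]
        exact H.one_mem
      refine ⟨⟨⟨mE D w, hmB⟩, rho_mE D w⟩, ?_⟩
      show wd (mE D w) = w
      rw [wd_mE, wz_of_none hw0])
  refine no_sec D (A.map B.subtype) ⟨?_, ?_⟩
  · rintro _ ⟨b, hb, rfl⟩ h3
    have h4 := hA.1 b hb h3
    rw [h4]
    rfl
  · intro m
    obtain ⟨b, hb, h3⟩ := hA.2 m
    exact ⟨b.1, ⟨b, hb, rfl⟩, h3⟩

end

/-- A central extension of `M22` by a group of order two inside the commutator subgroup. -/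
theorem exists_dc : ∃ (Γ : Type) (_ : Group Γ) (_ : Finite Γ) (τ : Γ →* ↥Spor.M22) (z : Γ), DC τ z := by
  classical
  obtain ⟨Γ₄, _, _, σ, ⟨hsurj, hcen, hcomm⟩, hcard⟩ := Cfsg.Agent.Lib.Schur.Cover.M22k4.exists_stem
  have h2d : 2 ∣ Nat.card σ.ker := by
    rw [hcard]
    norm_num
  haveI : Fact (Nat.Prime 2) := ⟨Nat.prime_two⟩
  obtain ⟨y, hy⟩ := exists_prime_orderOf_dvd_card' 2 h2d
  have hyK : (y : Γ₄) ∈ σ.ker := y.2
  have hyo : orderOf (y : Γ₄) = 2 := by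
    rw [Subgroup.orderOf_coe]
    exact hy
  let Z₀ : Subgroup Γ₄ := zpowers (y : Γ₄)
  have hZK : Z₀ ≤ σ.ker := (zpowers_le).mpr hyK
  have hZc : Z₀ ≤ center Γ₄ := hZK.trans hcen
  haveI hZn : Z₀.Normal := ⟨fun n hn g => by
    rw [mem_center_iff.mp (hZc hn) g, mul_inv_cancel_right]
    exact hn⟩
  have hZcard : Nat.card Z₀ = 2 := by
    rw [Nat.card_zpowers, hyo]
  let Z' : Subgroup σ.ker := Z₀.subgroupOf σ.ker
  have hZ'card : Nat.card Z' = 2 := by
    rw [← hZcard]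
    exact Nat.card_congr (Subgroup.subgroupOfEquivOfLe hZK).toEquiv
  have hZ'index : Z'.index = 2 := by
    have h3 := Z'.card_mul_index
    rw [hZ'card, hcard] at h3
    omega
  have hmemZ' : ∀ a : σ.ker, a ∈ Z' ↔ (a : Γ₄) ∈ Z₀ := fun a => Subgroup.mem_subgroupOf
  obtain ⟨z₁, hz₁⟩ : ∃ z₁ : σ.ker, z₁ ∉ Z' := by
    by_contra hcon
    push Not at hcon
    have h3 : Z' = ⊤ := (Subgroup.eq_top_iff' _).mpr hcon
    rw [h3, Subgroup.index_top] at hZ'index
    omega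
  have hz₁' : (z₁ : Γ₄) ∉ Z₀ := fun h => hz₁ ((hmemZ' _).mpr h)
  refine ⟨Γ₄ ⧸ Z₀, inferInstance, inferInstance, QuotientGroup.lift Z₀ σ (fun g hg => hZK hg),
    ((z₁ : Γ₄) : Γ₄ ⧸ Z₀), ?_⟩
  refine ⟨?_, ?_, ?_, ?_, ?_, ?_⟩
  · intro m
    obtain ⟨g, hg⟩ := hsurj m
    exact ⟨(g : Γ₄ ⧸ Z₀), hg⟩
  · intro γ
    induction γ using QuotientGroup.induction_on with
    | H g =>
    show σ g = 1 ↔ _
    constructor
    · intro hg
      have hgK : g ∈ σ.ker := hg
      by_cases hgZ : g ∈ Z₀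
      · left
        exact (QuotientGroup.eq_one_iff _).mpr hgZ
      · right
        apply QuotientGroup.eq.mpr
        have h3 : (⟨g, hgK⟩ : σ.ker)⁻¹ * z₁ ∈ Z' := by
          rw [Subgroup.mul_mem_iff_of_index_two hZ'index]
          constructor
          · intro h4
            exact absurd ((hmemZ' _).mp h4) (fun h5 => hgZ (by simpa using h5))
          · intro h4
            exact absurd h4 hz₁
        exact (hmemZ' _).mp h3
    · rintro (h | h)
      · have h3 : g ∈ Z₀ := (QuotientGroup.eq_one_iff _).mp h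
        exact hZK h3
      · have h3 := QuotientGroup.eq.mp h
        have h4 : g⁻¹ * z₁ ∈ σ.ker := hZK h3
        have h5 : g⁻¹ ∈ σ.ker := by
          have h6 := Subgroup.mul_mem _ h4 (Subgroup.inv_mem _ z₁.2)
          simpa using h6
        simpa using h5
  · intro h
    exact hz₁' ((QuotientGroup.eq_one_iff _).mp h)
  · intro γ
    induction γ using QuotientGroup.induction_on with
    | H g =>
    show ((((z₁ : Γ₄) * g : Γ₄) : Γ₄ ⧸ Z₀)) = ((g * (z₁ : Γ₄) : Γ₄) : Γ₄ ⧸ Z₀)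
    rw [mem_center_iff.mp (hcen z₁.2) g]
  · show (((z₁ : Γ₄) * (z₁ : Γ₄) : Γ₄) : Γ₄ ⧸ Z₀) = 1
    apply (QuotientGroup.eq_one_iff _).mpr
    have h3 : z₁ * z₁ ∈ Z' := by
      rw [Subgroup.mul_mem_iff_of_index_two hZ'index]
    exact (hmemZ' _).mp h3
  · have h3 : (z₁ : Γ₄) ∈ commutator Γ₄ := hcomm z₁.2
    have h4 := Subgroup.mem_map_of_mem (QuotientGroup.mk' Z₀) h3
    rw [_root_.commutator_def, Subgroup.map_commutator, Subgroup.map_top_of_surjective _ (QuotientGroup.mk'_surjective _)] at h4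
    exact h4

end Cfsg.Agent.Lib.ExtCert.M23.Ind
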