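import Cfsg.Agent.S2649
import Cfsg.Agent.S2037
import Cfsg.Agent.Lib.PermComp.Mathieu.Simple2x
import Cfsg.Agent.Lib.SchurCert.Upper
import Cfsg.Agent.Lib.ExtCert.M23.R7

/-!
# Sections of extensions of `M23`

Central extensions of `M23` split since the multiplier is trivial; extensions by the code module split; hence
so do the extensions by the sum of the code module and a trivial module.
-/

set_option autoImplicit false

namespace Cfsg.Agent.Lib.ExtCert.M23.Split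

open Cfsg Subgroup
open Cfsg.Agent.Lib.Golay.Core Cfsg.Agent.Lib.Golay.Perm Cfsg.Agent.Lib.Golay.OutGroups
open Cfsg.Agent.Lib.SchurCert.Upper
open scoped commutatorElement

/-- The subgroup is mapped bijectively. -/
def IsSec {B : Type*} [Group B] (ρ : B →* ↥Spor.M23) (A : Subgroup B) : Prop :=
  (∀ a ∈ A, ρ a = 1 → a = 1) ∧ ∀ m, ∃ a ∈ A, ρ a = m

theorem gen0_aut : checkAut (Cfsg.Agent.Lib.ExtCert.M23.R7.gcT 0) = true := by decide +kernel
theorem gen1_aut : checkAut (Cfsg.Agent.Lib.ExtCert.M23.R7.gcT 1) = true := by decide +kernel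
theorem gen0_23 : img (Cfsg.Agent.Lib.ExtCert.M23.R7.gcT 0) 23 = 23 := by decide +kernel
theorem gen1_23 : img (Cfsg.Agent.Lib.ExtCert.M23.R7.gcT 1) 23 = 23 := by decide +kernel

/-- `M23` is perfect. -/
theorem perfect : commutator ↥Spor.M23 = ⊤ := by
  have hs := Cfsg.Agent.Lib.PermComp.Mathieu.Simple2x.isSimple_stab (none : GolayPt)
  let F : ↥(MulAction.stabilizer M24 (none : GolayPt)) →* ↥Spor.M23 :=
    { toFun := fun x => ⟨x.1.1, x.1.2, x.2⟩
      map_one' := rfl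
      map_mul' := fun _ _ => rfl }
  have hF : Function.Surjective F := by
    intro y
    exact ⟨⟨⟨y.1, y.2.1⟩, y.2.2⟩, rfl⟩
  haveI : Nontrivial ↥Spor.M23 := Finite.one_lt_card_iff_nontrivial.mp (by rw [card_M23]; norm_num)
  have hsimple : IsSimpleGroup ↥Spor.M23 := IsSimpleGroup.isSimpleGroup_of_surjective F hF
  have hnorm : (commutator ↥Spor.M23).Normal := inferInstance
  rcases hnorm.eq_bot_or_eq_top with h | h
  · exfalso
    let x : ↥Spor.M23 := ⟨g (Cfsg.Agent.Lib.ExtCert.M23.R7.gcT 0), g_mem_M23 gen0_aut gen0_23⟩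
    let y : ↥Spor.M23 := ⟨g (Cfsg.Agent.Lib.ExtCert.M23.R7.gcT 1), g_mem_M23 gen1_aut gen1_23⟩
    have h1 : ⁅x, y⁆ ∈ commutator ↥Spor.M23 := Subgroup.commutator_mem_commutator (mem_top x) (mem_top y)
    rw [h, mem_bot, commutatorElement_eq_one_iff_mul_comm] at h1
    have h2 : (x * y).1 = (y * x).1 := congrArg Subtype.val h1
    have h3 := congrArg (fun π : Equiv.Perm GolayPt => π (pt 0)) h2
    have hv0 := checkAut_valid gen0_aut
    have hv1 := checkAut_valid gen1_aut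
    have e : ∀ P Q : ℕ, validPerm P = true → validPerm Q = true → img Q 0 < 24 → (g P * g Q) (pt 0) = pt (img P (img Q 0)) := by
      intro P Q hP hQ hlt
      rw [Equiv.Perm.mul_apply, g_pt hQ (by norm_num), g_pt hP hlt]
    have h4 : pt (img (Cfsg.Agent.Lib.ExtCert.M23.R7.gcT 0) (img (Cfsg.Agent.Lib.ExtCert.M23.R7.gcT 1) 0)) =
        pt (img (Cfsg.Agent.Lib.ExtCert.M23.R7.gcT 1) (img (Cfsg.Agent.Lib.ExtCert.M23.R7.gcT 0) 0)) := by
      rw [← e _ _ hv0 hv1 (by decide +kernel), ← e _ _ hv1 hv0 (by decide +kernel)]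
      exact h3
    have h5 := pt_injOn (by decide +kernel) (by decide +kernel) h4
    exact absurd h5 (by decide +kernel)
  · exact h

/-- **A central extension of `M23` splits.** -/
theorem central_split {Q : Type} [Group Q] [Finite Q] (f : Q →* ↥Spor.M23) (hf : Function.Surjective f)
    (hc : f.ker ≤ center Q) : ∃ D : Subgroup Q, IsSec f D := by
  set D := commutator Q with hD
  have hmap : D.map f = ⊤ := by
    rw [hD, _root_.commutator_def, Subgroup.map_commutator, Subgroup.map_top_of_surjective f hf]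
    exact perfect
  have hsup : D ⊔ f.ker = ⊤ := by
    rw [eq_top_iff]
    intro x _
    obtain ⟨y, hy, hyx⟩ : f x ∈ D.map f := hmap ▸ mem_top _
    have h2 : y⁻¹ * x ∈ f.ker := by
      rw [MonoidHom.mem_ker, map_mul, map_inv, hyx, inv_mul_cancel]
    have h3 : x = y * (y⁻¹ * x) := by group
    rw [h3]
    exact Subgroup.mul_mem_sup hy h2
  have hcomm := commutator_le_of_sup_central D f.ker hc hsup
  let fD : ↥D →* ↥Spor.M23 := f.comp D.subtype
  have hst : IsStemExtension fD := by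
    refine ⟨?_, ?_, ?_⟩
    · intro m
      obtain ⟨y, hy, hyx⟩ : m ∈ D.map f := hmap ▸ mem_top _
      exact ⟨⟨y, hy⟩, hyx⟩
    · intro x hx
      rw [mem_center_iff]
      intro y
      apply Subtype.ext
      exact (mem_center_iff.mp (hc hx) y.1)
    · intro x _
      have hxD : x.1 ∈ ⁅D, D⁆ := hcomm x.2
      -- the commutator of the subgroup
      have h5 : commutator ↥D = ⊤ := by
        rw [eq_top_iff]
        intro y _
        have h6 : y.1 ∈ ⁅D, D⁆ := hcomm y.2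
        have h7 : (commutator ↥D).map D.subtype = ⁅D, D⁆ := by
          have e : (⊤ : Subgroup ↥D).map D.subtype = D := by
            rw [← MonoidHom.range_eq_map, Subgroup.range_subtype]
          rw [_root_.commutator_def, Subgroup.map_commutator, e]
        rw [← h7] at h6
        obtain ⟨z, hz, hzy⟩ := h6
        have : z = y := Subtype.ext hzy
        rwa [← this]
      rw [h5]
      exact mem_top _
  obtain ⟨π, hπ⟩ := Cfsg.Agent.S2037.result.2 ↥D fD hst
  have hsub : ∀ x, x ∈ fD.ker → x = 1 := by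
    intro x hx
    obtain ⟨a, ha⟩ := hπ ⟨x, hx⟩
    have hone : ∀ b : Multiplicative (ZMod 1), b = 1 := fun b => Subsingleton.elim _ _
    rw [hone a, map_one] at ha
    exact (congrArg Subtype.val ha).symm
  refine ⟨D, ?_, ?_⟩
  · intro a ha h1
    have := hsub ⟨a, ha⟩ h1
    exact congrArg Subtype.val this
  · intro m
    obtain ⟨y, hy, hyx⟩ : m ∈ D.map f := hmap ▸ mem_top _
    exact ⟨y, hy, hyx⟩

/-- The word which is one on all points but the extra point. -/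
def one23 : GolayPt → ZMod 2 := fun p => if p = none then 0 else 1

theorem one23_comp (σ : Equiv.Perm GolayPt) (hσ : σ none = none) : one23 ∘ ⇑σ⁻¹ = one23 := by
  funext p
  have h1 : σ⁻¹ none = none := by
    rw [Equiv.Perm.inv_eq_iff_eq]
    exact hσ.symm
  show (if σ⁻¹ p = none then (0 : ZMod 2) else 1) = if p = none then 0 else 1
  by_cases hp : p = none
  · subst hp
    rw [if_pos h1, if_pos rfl]
  · have h2 : σ⁻¹ p ≠ none := by
      intro h
      apply hp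
      have := congrArg σ h
      simpa [hσ] using this
    rw [if_neg h2, if_neg hp]

theorem fix_none (σ : ↥Spor.M23) : (σ : Equiv.Perm GolayPt) none = none := σ.2.2

theorem comp_mem (σ : ↥Spor.M23) {w : GolayPt → ZMod 2} (hw : w ∈ golayCode) :
    w ∘ ⇑(σ : Equiv.Perm GolayPt)⁻¹ ∈ golayCode := comp_symm_mem σ.2.1 hw

theorem W_add_self2 (u : GolayPt → ZMod 2) : u + u = 0 := by
  funext p
  exact CharTwo.add_self_eq_zero (u p)

/-- **An extension of `M23` by the sum of the code module and a trivial module splits.** -/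
theorem split12 {B : Type} [Group B] [Finite B] (ρ : B →* ↥Spor.M23) (hρ : Function.Surjective ρ)
    (ψ : ρ.ker → (GolayPt → ZMod 2)) (hadd : ∀ a b, ψ (a * b) = ψ a + ψ b) (hinj : Function.Injective ψ)
    (hconj : ∀ (g : B) (a : ρ.ker), ψ ⟨g * a.1 * g⁻¹, ρ.normal_ker.conj_mem a.1 a.2 g⟩ =
      ψ a ∘ ⇑((ρ g : ↥Spor.M23) : Equiv.Perm GolayPt)⁻¹)
    (h0 : ∀ a, ψ a none = 0) (h1 : ∀ a, ψ a ∈ golayCode ∨ ψ a + one23 ∈ golayCode)
    (h2 : ∀ w, w ∈ golayCode → w none = 0 → ∃ a, ψ a = w) : ∃ A : Subgroup B, IsSec ρ A := by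
  classical
  have hψ1 : ψ 1 = 0 := by
    have h3 := hadd 1 1
    rw [mul_one] at h3
    exact (left_eq_add.mp h3)
  have hinv : ∀ a : ρ.ker, ψ a⁻¹ = ψ a := by
    intro a
    have h5 := hadd a a⁻¹
    rw [mul_inv_cancel, hψ1] at h5
    have h7 : ψ a + (ψ a + ψ a⁻¹) = ψ a := by rw [← h5, add_zero]
    rwa [← add_assoc, W_add_self2, zero_add] at h7
  -- the code part
  let V0 : Subgroup B :=
    { carrier := {a | ∃ h : a ∈ ρ.ker, ψ ⟨a, h⟩ ∈ golayCode}
      mul_mem' := by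
        rintro a b ⟨h3, h4⟩ ⟨h5, h6⟩
        refine ⟨ρ.ker.mul_mem h3 h5, ?_⟩
        have e : (⟨a * b, ρ.ker.mul_mem h3 h5⟩ : ρ.ker) = ⟨a, h3⟩ * ⟨b, h5⟩ := rfl
        rw [e, hadd]
        exact golayCode.add_mem h4 h6
      one_mem' := by
        refine ⟨ρ.ker.one_mem, ?_⟩
        have e : (⟨1, ρ.ker.one_mem⟩ : ρ.ker) = 1 := rfl
        rw [e, hψ1]
        exact golayCode.zero_mem
      inv_mem' := by
        rintro a ⟨h3, h4⟩
        refine ⟨ρ.ker.inv_mem h3, ?_⟩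
        have e : (⟨a⁻¹, ρ.ker.inv_mem h3⟩ : ρ.ker) = ⟨a, h3⟩⁻¹ := rfl
        rw [e, hinv]
        exact h4 }
  have hV0 : ∀ a, a ∈ V0 ↔ ∃ h : a ∈ ρ.ker, ψ ⟨a, h⟩ ∈ golayCode := fun a => Iff.rfl
  have hnorm : V0.Normal := by
    constructor
    rintro a ⟨h3, h4⟩ g
    have h5 := hconj g ⟨a, h3⟩
    refine ⟨ρ.normal_ker.conj_mem a h3 g, ?_⟩
    rw [h5]
    exact comp_mem _ h4
  -- the quotient
  let f2 : B ⧸ V0 →* ↥Spor.M23 := QuotientGroup.lift V0 ρ (fun a ha => ha.1)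
  have hf2 : Function.Surjective f2 := by
    intro m
    obtain ⟨b, hb⟩ := hρ m
    exact ⟨(b : B ⧸ V0), hb⟩
  have hcomm : ∀ (a g : B), a ∈ ρ.ker → g * a * g⁻¹ * a⁻¹ ∈ V0 := by
    intro a g ha
    have h3 : g * a * g⁻¹ ∈ ρ.ker := ρ.normal_ker.conj_mem a ha g
    have h4 : a⁻¹ ∈ ρ.ker := ρ.ker.inv_mem ha
    have h6 : g * a * g⁻¹ * a⁻¹ ∈ ρ.ker := ρ.ker.mul_mem h3 h4
    refine ⟨h6, ?_⟩
    have e : (⟨g * a * g⁻¹ * a⁻¹, h6⟩ : ρ.ker) = ⟨g * a * g⁻¹, h3⟩ * ⟨a, ha⟩⁻¹ := rfl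
    rw [e, hadd, hconj g ⟨a, ha⟩, hinv]
    rcases h1 ⟨a, ha⟩ with h8 | h8
    · exact golayCode.add_mem (comp_mem _ h8) h8
    · have h9 := golayCode.add_mem (comp_mem (ρ g) h8) h8
      have e2 : (ψ ⟨a, ha⟩ + one23) ∘ ⇑((ρ g : ↥Spor.M23) : Equiv.Perm GolayPt)⁻¹ =
          ψ ⟨a, ha⟩ ∘ ⇑((ρ g : ↥Spor.M23) : Equiv.Perm GolayPt)⁻¹ + one23 := by
        funext p
        have := congrFun (one23_comp _ (fix_none (ρ g))) p
        simp only [Function.comp_apply, Pi.add_apply] at this ⊢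
        rw [this]
      rw [e2] at h9
      have e3 : ψ ⟨a, ha⟩ ∘ ⇑((ρ g : ↥Spor.M23) : Equiv.Perm GolayPt)⁻¹ + one23 + (ψ ⟨a, ha⟩ + one23) =
          ψ ⟨a, ha⟩ ∘ ⇑((ρ g : ↥Spor.M23) : Equiv.Perm GolayPt)⁻¹ + ψ ⟨a, ha⟩ := by
        rw [add_add_add_comm, W_add_self2, add_zero]
      rwa [e3] at h9
  have hc : f2.ker ≤ center (B ⧸ V0) := by
    intro x hx
    rw [mem_center_iff]
    induction x using QuotientGroup.induction_on with
    | H a =>
    intro y
    induction y using QuotientGroup.induction_on with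
    | H g =>
    have ha : ρ a = 1 := hx
    rw [← QuotientGroup.mk_mul, ← QuotientGroup.mk_mul, QuotientGroup.eq]
    have h3 := hnorm.conj_mem _ (hcomm a g⁻¹ ha) a⁻¹
    convert h3 using 1
    group
  obtain ⟨D, hD1, hD2⟩ := central_split f2 hf2 hc
  -- the preimage
  let E3 : Subgroup B := D.comap (QuotientGroup.mk' V0)
  have hE3 : ∀ b, b ∈ E3 ↔ (b : B ⧸ V0) ∈ D := fun b => Iff.rfl
  let ρ3 : ↥E3 →* ↥Spor.M23 := ρ.comp E3.subtype
  have hρ3 : Function.Surjective ρ3 := by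
    intro m
    obtain ⟨d, hd, hdm⟩ := hD2 m
    induction d using QuotientGroup.induction_on with
    | H b =>
    exact ⟨⟨b, (hE3 b).mpr hd⟩, hdm⟩
  have hk3 : ∀ x : ↥E3, x ∈ ρ3.ker → x.1 ∈ V0 := by
    intro x hx
    have h3 : ρ x.1 = 1 := hx
    have h4 : (x.1 : B ⧸ V0) = 1 := hD1 _ ((hE3 _).mp x.2) h3
    exact (QuotientGroup.eq_one_iff _).mp h4
  let toK : ρ3.ker → ρ.ker := fun x => ⟨x.1.1, x.2⟩
  let ψ3 : Additive ↥ρ3.ker →+ (GolayPt → ZMod 2) :=
    { toFun := fun x => ψ (toK x.toMul)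
      map_zero' := hψ1
      map_add' := fun x y => hadd (toK x.toMul) (toK y.toMul) }
  have hψ3 : ∀ x : ρ3.ker, ψ3 (Additive.ofMul x) = ψ (toK x) := fun _ => rfl
  let φ3 : ↥E3 ⧸ ρ3.ker ≃* ↥Spor.M23 := QuotientGroup.quotientKerEquivOfSurjective ρ3 hρ3
  obtain ⟨H3, hH1, hH2⟩ := Cfsg.Agent.S2649.result ρ3.ker φ3 ψ3
    (by
      intro x y hxy
      have h3 : ψ (toK x.toMul) = ψ (toK y.toMul) := hxy
      have h4 := hinj h3
      have h5 : (x.toMul).1.1 = (y.toMul).1.1 := congrArg (fun z : ρ.ker => z.1) h4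
      exact Additive.toMul.injective (Subtype.ext (Subtype.ext h5)))
    (by
      intro w
      constructor
      · rintro ⟨x, rfl⟩
        have h3 := hk3 x.toMul.1 x.toMul.2
        obtain ⟨h4, h5⟩ := h3
        exact ⟨h5, h0 _⟩
      · rintro ⟨h3, h4⟩
        obtain ⟨a, rfl⟩ := h2 w h3 h4
        have h5 : a.1 ∈ V0 := ⟨a.2, h3⟩
        have h6 : (a.1 : B ⧸ V0) = 1 := (QuotientGroup.eq_one_iff _).mpr h5
        have h7 : a.1 ∈ E3 := by
          rw [hE3, h6]
          exact D.one_mem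
        refine ⟨Additive.ofMul ⟨⟨a.1, h7⟩, a.2⟩, rfl⟩)
    (by
      intro g n
      exact hconj g.1 (toK n))
  refine ⟨H3.map E3.subtype, ?_, ?_⟩
  · rintro _ ⟨y, hy, rfl⟩ h3
    have h4 : y ∈ ρ3.ker := h3
    have h5 : y ∈ H3 ⊓ ρ3.ker := ⟨hy, h4⟩
    rw [hH1] at h5
    have h6 : y = 1 := h5
    rw [h6]
    rfl
  · intro m
    obtain ⟨b, hb⟩ := hρ3 m
    have h3 : b ∈ ((H3 ⊔ ρ3.ker : Subgroup ↥E3) : Set ↥E3) := by
      rw [hH2]
      exact Set.mem_univ _
    rw [Subgroup.mul_normal] at h3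
    obtain ⟨a, ha, c, hc2, rfl⟩ := Set.mem_mul.mp h3
    refine ⟨a.1, ⟨a, ha, rfl⟩, ?_⟩
    have h4 : ρ3 c = 1 := hc2
    rw [map_mul, h4, mul_one] at hb
    exact hb

end Cfsg.Agent.Lib.ExtCert.M23.Split
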